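import Cfsg.Agent.Lib.PLocal.WeilGap.Wt

/-!
# Rank-one representations are Weil representations on each coordinate line
-/

set_option autoImplicit false

namespace CfsgLib.PLocal.WeilGap

open Matrix CfsgLib.PLocal.Weil

variable {F : Type*} [Field F] [Fintype F] {n : ℕ}
variable {V : Type*} [AddCommGroup V] [Module ℂ V]

noncomputable local instance instFintypeSymMBlock : Fintype (SymM F n) := Fintype.ofFinite _

omit [Fintype F] in
theorem sE_eq (i k : Fin n) : (sE i k : SymM F n) = symPair (Pi.single i 1) (Pi.single k 1) := by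
  apply Subtype.ext
  simp [sE, symPair, single_eq]

omit [Fintype F] in
theorem rowZero_symPair {i j l : Fin n} (hj : j ≠ i) (hl : l ≠ i) :
    RowZero i (symPair (Pi.single j 1) (Pi.single l 1) : SymM F n) := fun b => by
  simp [symPair, vecMulVec_apply, Ne.symm hj, Ne.symm hl]

/-- The transpose of a unit. -/
def trU (A : (Matrix (Fin n) (Fin n) F)ˣ) : (Matrix (Fin n) (Fin n) F)ˣ :=
  ⟨(A : Matrix (Fin n) (Fin n) F)ᵀ, (A⁻¹ : (Matrix (Fin n) (Fin n) F)ˣ).1ᵀ,
    by rw [← transpose_mul, Units.inv_mul, transpose_one], by rw [← transpose_mul, Units.mul_inv, transpose_one]⟩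

theorem lev_mem_Wt (ψ : AddChar F ℂ) (ρ : Representation ℂ (Matrix.symplecticGroup (Fin n) F) V)
    (A : (Matrix (Fin n) (Fin n) F)ˣ) {x : Fin n → F} {u : V} (hu : u ∈ Wt ρ (chX ψ x)) :
    ρ (lev A) u ∈ Wt ρ (chX ψ ((A : Matrix (Fin n) (Fin n) F) *ᵥ x)) := by
  rw [mem_Wt] at hu ⊢
  intro S
  rw [← Module.End.mul_apply, ← map_mul, low_mul_lev (trU A) A (transpose_transpose _).symm, map_mul,
    Module.End.mul_apply, hu, map_smul]
  congr 1
  simp only [chX_apply, cong, LinearMap.coe_mk, AddHom.coe_mk, trU, transpose_transpose, ← mulVec_mulVec]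
  rw [dotProduct_mulVec x (A : Matrix (Fin n) (Fin n) F)ᵀ, vecMul_transpose]

theorem chX_sE (ψ : AddChar F ℂ) (h2 : (2 : F) ≠ 0) {i k : Fin n} {x : Fin n → F} (hxi : x i = 0) (r : F) :
    chX ψ x (r • sE i k) = 1 := by
  show ψ ((-(2 : F)⁻¹) * sqf x (r • sE i k)) = 1
  rw [map_smul, sE_eq, sqf_single, hxi]
  simp

/-- The weight is determined by the part of the Siegel subgroup avoiding one diagonal entry. -/
theorem wt_of_partial {ψ : AddChar F ℂ} (h2 : (2 : F) ≠ 0) (hψ : ψ.IsPrimitive)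
    {ρ : Representation ℂ (Matrix.symplecticGroup (Fin n) F) V} (hR : RankOne ψ ρ) {i k : Fin n}
    (hik : i ≠ k) {x : Fin n → F} (hxi : x i = 0) (hxk : x k ≠ 0) {u : V}
    (h0 : ∀ S, RowZero i S → ρ (low S) u = chX ψ x S • u)
    (h1 : ∀ r : F, ρ (low (r • sE i k)) u = chX ψ x (r • sE i k) • u) : u ∈ Wt ρ (chX ψ x) := by
  classical
  rw [← sum_prj ρ u]
  refine Submodule.sum_mem _ fun χ _ => ?_
  by_cases hv : prj ρ χ u = 0
  · rw [hv]; exact zero_mem _
  suffices χ = chX ψ x by rw [← this]; exact prj_mem ρ χ u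
  obtain ⟨b, y, hby⟩ := hR χ _ hv (prj_mem ρ χ u)
  have hagree : ∀ T : SymM F n, ρ (low T) u = chX ψ x T • u → χ T = chX ψ x T := fun T hT => by
    have h := prj_mem ρ χ u T
    rw [← prj_comm, show tOp ρ T u = chX ψ x T • u from hT, map_smul] at h
    exact (smul_left_injective ℂ hv h).symm
  let l1 : SymM F n →ₗ[F] F := b • sqf y
  let l2 : SymM F n →ₗ[F] F := (-(2 : F)⁻¹) • sqf x
  have hl : ∀ T : SymM F n, (∀ r : F, ρ (low (r • T)) u = chX ψ x (r • T) • u) → l1 T = l2 T := fun T hT =>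
    func_eq hψ l1 l2 T fun r => (hby (r • T)).symm.trans (hagree _ (hT r))
  have hjl : ∀ j l, j ≠ i → l ≠ i → b * (y j * y l) = -(2 : F)⁻¹ * (x j * x l) := fun j l hj hl' => by
    have h := hl _ fun r => h0 _ ((rowZero_symPair hj hl').smul r)
    simp only [l1, l2, LinearMap.smul_apply, sqf_single, smul_eq_mul] at h
    exact mul_left_cancel₀ h2 (by linear_combination h)
  have hik' : b * (y i * y k) = 0 := by
    have h := hl _ h1
    simp only [l1, l2, LinearMap.smul_apply, sE_eq, sqf_single, smul_eq_mul, hxi, zero_mul, mul_zero] at h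
    exact mul_left_cancel₀ h2 (by linear_combination h)
  have hkk := hjl k k hik.symm hik.symm
  have hne : -(2 : F)⁻¹ * (x k * x k) ≠ 0 := mul_ne_zero (neg_ne_zero.2 (inv_ne_zero h2)) (mul_ne_zero hxk hxk)
  rw [← hkk] at hne
  have hyi : y i = 0 :=
    ((mul_eq_zero.1 ((mul_eq_zero.1 hik').resolve_left (left_ne_zero_of_mul hne))).resolve_right
      (left_ne_zero_of_mul (right_ne_zero_of_mul hne)))
  have hall : ∀ j l, b * (y j * y l) = -(2 : F)⁻¹ * (x j * x l) := fun j l => by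
    by_cases hj : j = i
    · subst hj; rw [hyi, hxi]; ring
    by_cases hl' : l = i
    · subst hl'; rw [hyi, hxi]; ring
    exact hjl j l hj hl'
  have he : l1 = l2 := ext_symPair h2 fun w => by
    simp only [l1, l2, LinearMap.smul_apply, sqf_symPair, smul_eq_mul, dotProduct, Finset.sum_mul_sum]
    simp only [Finset.mul_sum]
    refine Finset.sum_congr rfl fun j _ => Finset.sum_congr rfl fun l _ => ?_
    linear_combination (2 * (w j * w l)) * hall j l
  refine DFunLike.ext _ _ fun S => ?_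
  rw [hby, show b * sqf y S = l1 S from rfl, he]
  rfl

variable [DecidableEq F] (ψ : AddChar F ℂ) (h2 : (2 : F) ≠ 0) (hψ : ψ.IsPrimitive)
variable (ρ : Representation ℂ (Matrix.symplecticGroup (Fin n) F) V)

/-- A linear map commuting with one group element. -/
def Com (g : Matrix.symplecticGroup (Fin n) F) (T : ((Fin n → F) → ℂ) →ₗ[ℂ] V) : Prop :=
  T ∘ₗ wRep ψ h2 hψ g = ρ g ∘ₗ T

variable {ψ h2 hψ ρ}

theorem Com.mul {g g' : Matrix.symplecticGroup (Fin n) F} {T : ((Fin n → F) → ℂ) →ₗ[ℂ] V}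
    (hg : Com ψ h2 hψ ρ g T) (hg' : Com ψ h2 hψ ρ g' T) : Com ψ h2 hψ ρ (g * g') T :=
  LinearMap.ext fun f => by
    have e := fun a => LinearMap.congr_fun hg a
    have e' := fun a => LinearMap.congr_fun hg' a
    simp only [LinearMap.comp_apply] at e e' ⊢
    rw [map_mul, map_mul, Module.End.mul_apply, Module.End.mul_apply, e, e']

theorem com_conj {g h : Matrix.symplecticGroup (Fin n) F} {T : ((Fin n → F) → ℂ) →ₗ[ℂ] V}
    (hh : Com ψ h2 hψ ρ (g⁻¹ * h * g) T) :
    Com ψ h2 hψ ρ h (ρ g ∘ₗ T ∘ₗ wRep ψ h2 hψ g⁻¹) :=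
  LinearMap.ext fun f => by
    have e := LinearMap.congr_fun hh (wRep ψ h2 hψ g⁻¹ f)
    simp only [LinearMap.comp_apply, ← Module.End.mul_apply, ← map_mul] at e ⊢
    rw [show g⁻¹ * h * g * g⁻¹ = g⁻¹ * h by group] at e
    rw [e, ← Module.End.mul_apply, ← map_mul, show g * (g⁻¹ * h * g) = h * g by group]

/-- The maps from one line of delta functions commuting with its Heisenberg group. -/
structure Tsp (i k : Fin n) (hik : i ≠ k) (x : Fin n → F) (T : ((Fin n → F) → ℂ) →ₗ[ℂ] V) : Prop where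
  supp : ∀ f, (∀ s, f (x + Pi.single i s) = 0) → T f = 0
  rz : ∀ S, RowZero i S → Com ψ h2 hψ ρ (low S) T
  me : ∀ r : F, Com ψ h2 hψ ρ (low (r • sE i k)) T
  sh : ∀ r : F, Com ψ h2 hψ ρ (lev (shU i k hik r)) T

variable {i k : Fin n} {hik : i ≠ k} {x : Fin n → F}

omit [Fintype F] [DecidableEq F] in
theorem shU_block (hik : i ≠ k) (x : Fin n → F) (r s : F) :
    (shU i k hik r : Matrix (Fin n) (Fin n) F) *ᵥ (x + Pi.single i s) = x + Pi.single i (s + r * x k) := by
  rw [shU_mulVec, Pi.add_apply, Pi.single_eq_of_ne (Ne.symm hik), add_zero, add_assoc, ← Pi.single_add]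

theorem Tsp.low_com (hn : 2 ≤ n) (hR : RankOne ψ ρ) (hxi : x i = 0) (hxk : x k ≠ 0)
    {T : ((Fin n → F) → ℂ) →ₗ[ℂ] V} (hT : Tsp (ψ := ψ) (h2 := h2) (hψ := hψ) (ρ := ρ) i k hik x T)
    (S : SymM F n) : Com ψ h2 hψ ρ (low S) T := by
  refine (Pi.basisFun ℂ (Fin n → F)).ext fun y => ?_
  simp only [Pi.basisFun_apply, LinearMap.comp_apply, wRep_low_single ψ h2 hψ hn, map_smul]
  by_cases hy : ∃ s, y = x + Pi.single i s
  · obtain ⟨s, rfl⟩ := hy
    have hu : T (Pi.single x 1) ∈ Wt ρ (chX ψ x) := by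
      refine wt_of_partial h2 hψ hR hik hxi hxk (fun S hS => ?_) fun r => ?_
      · have h := LinearMap.congr_fun (hT.rz S hS) (Pi.single x 1)
        simp only [LinearMap.comp_apply, wRep_low_single ψ h2 hψ hn, map_smul] at h
        exact h.symm
      · have h := LinearMap.congr_fun (hT.me r) (Pi.single x 1)
        simp only [LinearMap.comp_apply, wRep_low_single ψ h2 hψ hn, map_smul] at h
        exact h.symm
    have hsh : (shU i k hik (s / x k) : Matrix (Fin n) (Fin n) F) *ᵥ x = x + Pi.single i s := by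
      have := shU_block hik x (s / x k) 0
      rwa [Pi.single_zero, add_zero, zero_add, div_mul_cancel₀ _ hxk] at this
    have h := LinearMap.congr_fun (hT.sh (s / x k)) (Pi.single x 1)
    simp only [LinearMap.comp_apply, wRep_lev_single, map_smul, hsh] at h
    have hw := Submodule.smul_mem _ (cL ψ h2 hψ (shU i k hik (s / x k)))⁻¹
      (lev_mem_Wt ψ ρ (shU i k hik (s / x k)) hu)
    rw [← h, inv_smul_smul₀ (cL_ne_zero ψ h2 hψ _), hsh] at hw
    exact (hw S).symm
  · push Not at hy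
    have : T (Pi.single y 1) = 0 := hT.supp _ fun s => Pi.single_eq_of_ne (hy s).symm _
    rw [this, smul_zero, map_zero]

theorem Tsp.conj_low (hn : 2 ≤ n) (hR : RankOne ψ ρ) (hxi : x i = 0) (hxk : x k ≠ 0)
    {T : ((Fin n → F) → ℂ) →ₗ[ℂ] V} (hT : Tsp (ψ := ψ) (h2 := h2) (hψ := hψ) (ρ := ρ) i k hik x T) (t : F) :
    Tsp (ψ := ψ) (h2 := h2) (hψ := hψ) (ρ := ρ) i k hik x
      (ρ (low (t • sqE i)) ∘ₗ T ∘ₗ wRep ψ h2 hψ (low (t • sqE i))⁻¹) := by
  have hinv : (low (t • sqE i) : Matrix.symplecticGroup (Fin n) F)⁻¹ = low ((-t) • sqE i) :=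
    inv_eq_of_mul_eq_one_right (by rw [← low_add, ← add_smul, add_neg_cancel, zero_smul, low_zero])
  have hall := hT.low_com hn hR hxi hxk
  have hc : ∀ S, Com ψ h2 hψ ρ (low S) (ρ (low (t • sqE i)) ∘ₗ T ∘ₗ wRep ψ h2 hψ (low (t • sqE i))⁻¹) :=
    fun S => com_conj (by rw [hinv, ← low_add, ← low_add]; exact hall _)
  refine ⟨fun f hf => ?_, fun S _ => hc S, fun r => hc _, fun r => com_conj ?_⟩
  · rw [LinearMap.comp_apply, LinearMap.comp_apply, hT.supp _ fun s => by
      rw [hinv, wRep_low_apply ψ h2 hψ hn, hf, mul_zero], map_zero]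
  · rw [hinv, low_conj_sh hik]
    exact (hT.sh r).mul (hall _)

theorem Tsp.conj_upE (hn : 2 ≤ n) (hR : RankOne ψ ρ) (hxi : x i = 0) (hxk : x k ≠ 0)
    {T : ((Fin n → F) → ℂ) →ₗ[ℂ] V} (hT : Tsp (ψ := ψ) (h2 := h2) (hψ := hψ) (ρ := ρ) i k hik x T) (t : F) :
    Tsp (ψ := ψ) (h2 := h2) (hψ := hψ) (ρ := ρ) i k hik x
      (ρ (upE i t) ∘ₗ T ∘ₗ wRep ψ h2 hψ (upE i t)⁻¹) := by
  have hinv : (upE i t : Matrix.symplecticGroup (Fin n) F)⁻¹ = upE i (-t) :=
    inv_eq_of_mul_eq_one_left (upE_neg_mul i t)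
  have hall := hT.low_com hn hR hxi hxk
  refine ⟨fun f hf => ?_, fun S hS => com_conj ?_, fun r => com_conj ?_, fun r => com_conj ?_⟩
  · rw [LinearMap.comp_apply, LinearMap.comp_apply, hT.supp _ fun s => ?_, map_zero]
    rw [hinv, wRep_apply, mulVec, dotProduct]
    refine Finset.sum_eq_zero fun y _ => ?_
    by_cases hy : y = x + Pi.single i (y i)
    · rw [hy, hf, mul_zero]
    · obtain ⟨l, hl⟩ := Function.ne_iff.1 hy
      have hli : l ≠ i := fun e => hl (by subst e; simp [hxi])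
      rw [weil_upE_apply_eq_zero ψ h2 hψ i (-t) hli (by
        simpa [Pi.single_eq_of_ne hli, eq_comm] using hl), zero_mul]
  · rw [hinv, upE_comm_low (-t) hS, mul_assoc, upE_neg_mul, mul_one]
    exact hall S
  · rw [hinv, upE_conj_sE hik]
    exact (hT.sh _).mul (hall _)
  · rw [hinv, upE_comm_lev i (-t) _ (by rw [shU_mulVec, Pi.single_eq_of_ne (Ne.symm hik)]; simp), mul_assoc,
      upE_neg_mul, mul_one]
    exact hT.sh r

theorem Tsp.upE_com (hn : 2 ≤ n) (hR : RankOne ψ ρ) (hxi : x i = 0) (hxk : x k ≠ 0)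
    {T : ((Fin n → F) → ℂ) →ₗ[ℂ] V} (hT : Tsp (ψ := ψ) (h2 := h2) (hψ := hψ) (ρ := ρ) i k hik x T) (t : F) :
    Com ψ h2 hψ ρ (upE i t) T := by
  set a : Matrix.symplecticGroup (Fin n) F := low ((-1 : F) • sqE i) with ha
  set b : Matrix.symplecticGroup (Fin n) F := upE i 1 with hb
  set w : Matrix.symplecticGroup (Fin n) F := low (sqE i) * upE i (-1) * low (sqE i) with hw
  have hai : a⁻¹ = low (sqE i) :=
    inv_eq_of_mul_eq_one_right (by
      rw [ha, ← low_add, show (-1 : F) • (sqE i : SymM F n) + sqE i = 0 from Subtype.ext (by simp), low_zero])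
  have hbi : b⁻¹ = upE i (-1) := inv_eq_of_mul_eq_one_left (upE_neg_mul i 1)
  have hw' : w⁻¹ = a * b * a := by
    rw [hw, ← hai, ← hbi]; group
  set T' := ρ w⁻¹ ∘ₗ T ∘ₗ wRep ψ h2 hψ w with hT'
  have hT'' : Tsp (ψ := ψ) (h2 := h2) (hψ := hψ) (ρ := ρ) i k hik x T' := by
    have h3 := ((hT.conj_low hn hR hxi hxk (-1)).conj_upE hn hR hxi hxk 1).conj_low hn hR hxi hxk (-1)
    convert h3 using 1
    rw [hT', hw', show w = a⁻¹ * b⁻¹ * a⁻¹ by rw [hai, hbi], ← ha, ← hb, map_mul, map_mul, map_mul, map_mul]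
    rfl
  have h := hT''.low_com hn hR hxi hxk ((-t) • sqE i)
  refine LinearMap.ext fun f => ?_
  have e := congrArg (ρ w) (LinearMap.congr_fun h (wRep ψ h2 hψ w⁻¹ f))
  simp only [hT', LinearMap.comp_apply, ← Module.End.mul_apply, ← map_mul, mul_inv_cancel, mul_inv_cancel_left,
    one_mul, map_one, Module.End.one_apply] at e ⊢
  rw [← mul_assoc, ← upE_weyl, ← hw, mul_assoc, mul_inv_cancel, mul_one] at e
  rw [e]

variable (ψ h2 hψ ρ)

/-- A family along a line of delta functions behaves as in the Weil representation. -/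
theorem block_maps (hn : 2 ≤ n) (hR : RankOne ψ ρ) (i k : Fin n) (hik : i ≠ k) (x : Fin n → F)
    (hxi : x i = 0) (hxk : x k ≠ 0) (d : F → V) (hd : ∀ s, d s ∈ Wt ρ (chX ψ (x + Pi.single i s)))
    (hsh : ∀ r s, ρ (lev (shU i k hik r)) (d s) = cL ψ h2 hψ (shU i k hik r) • d (s + r * x k)) :
    ∃ T : ((Fin n → F) → ℂ) →ₗ[ℂ] V, (∀ f, T f = ∑ s, f (x + Pi.single i s) • d s) ∧
      (∀ S, Com ψ h2 hψ ρ (low S) T) ∧ ∀ t, Com ψ h2 hψ ρ (upE i t) T := by
  let T : ((Fin n → F) → ℂ) →ₗ[ℂ] V :=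
    ∑ s, (LinearMap.proj (x + Pi.single i s) : ((Fin n → F) → ℂ) →ₗ[ℂ] ℂ).smulRight (d s)
  have hTapp : ∀ f, T f = ∑ s, f (x + Pi.single i s) • d s := fun f => by simp [T]
  have hinj : ∀ s s' : F, x + Pi.single i s = x + Pi.single i s' → s = s' := fun s s' h => by
    simpa using congrFun (add_left_cancel h) i
  have hTy : ∀ s0, T (Pi.single (x + Pi.single i s0) 1) = d s0 := fun s0 => by
    rw [hTapp, Finset.sum_eq_single s0]
    · simp
    · intro s _ hs; rw [Pi.single_eq_of_ne (fun e => hs (hinj _ _ e)), zero_smul]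
    · simp
  have hTn : ∀ y, (∀ s, y ≠ x + Pi.single i s) → T (Pi.single y 1) = 0 := fun y hy => by
    rw [hTapp, Finset.sum_eq_zero fun s _ => by rw [Pi.single_eq_of_ne (hy s).symm, zero_smul]]
  have hlow : ∀ S, Com ψ h2 hψ ρ (low S) T := fun S => (Pi.basisFun ℂ (Fin n → F)).ext fun y => by
    simp only [Pi.basisFun_apply, LinearMap.comp_apply, wRep_low_single ψ h2 hψ hn, map_smul]
    by_cases hy : ∃ s, y = x + Pi.single i s
    · obtain ⟨s, rfl⟩ := hy
      rw [hTy]; exact (hd s S).symm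
    · push Not at hy
      rw [hTn y hy, smul_zero, map_zero]
  have hT : Tsp (ψ := ψ) (h2 := h2) (hψ := hψ) (ρ := ρ) i k hik x T := by
    refine ⟨fun f hf => ?_, fun S _ => hlow S, fun r => hlow _, fun r => ?_⟩
    · simp [hTapp, hf]
    · refine (Pi.basisFun ℂ (Fin n → F)).ext fun y => ?_
      simp only [Pi.basisFun_apply, LinearMap.comp_apply, wRep_lev_single, map_smul]
      by_cases hy : ∃ s, y = x + Pi.single i s
      · obtain ⟨s, rfl⟩ := hy
        rw [shU_block, hTy, hTy, hsh]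
      · push Not at hy
        rw [hTn y hy, hTn _ fun s e => hy (s - r * x k) ?_, smul_zero, map_zero]
        have e' := congrArg (fun z => ((shU i k hik (-r) : (Matrix (Fin n) (Fin n) F)ˣ) :
          Matrix (Fin n) (Fin n) F) *ᵥ z) e
        simp only [mulVec_mulVec, ← Units.val_mul, ← shU_add, neg_add_cancel, shU_zero, Units.val_one,
          one_mulVec, shU_block] at e'
        rw [e', sub_eq_add_neg, neg_mul]
  exact ⟨T, hTapp, hlow, fun t => hT.upE_com hn hR hxi hxk t⟩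

/-- The upper root subgroup acts on such a family by the Weil kernel. -/
theorem block_up (hn : 2 ≤ n) (hR : RankOne ψ ρ) (i k : Fin n) (hik : i ≠ k) (x : Fin n → F)
    (hxi : x i = 0) (hxk : x k ≠ 0) (d : F → V) (hd : ∀ s, d s ∈ Wt ρ (chX ψ (x + Pi.single i s)))
    (hsh : ∀ r s, ρ (lev (shU i k hik r)) (d s) = cL ψ h2 hψ (shU i k hik r) • d (s + r * x k)) (t s : F) :
    ρ (upE i t) (d s) =
      ∑ s', (weil ψ h2 hψ (upE i t)).1 (x + Pi.single i s') (x + Pi.single i s) • d s' := by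
  obtain ⟨T, hT, -, hU⟩ := block_maps ψ h2 hψ ρ hn hR i k hik x hxi hxk d hd hsh
  have h := LinearMap.congr_fun (hU t) (Pi.single (x + Pi.single i s) 1)
  have h1 : T (Pi.single (x + Pi.single i s) 1) = d s := by
    rw [hT, Finset.sum_eq_single s (fun b _ hb => by
      rw [Pi.single_eq_of_ne fun e => hb (by simpa using congrFun (add_left_cancel e) i), zero_smul]) (by simp),
      Pi.single_eq_same, one_smul]
  rw [LinearMap.comp_apply, LinearMap.comp_apply, h1, hT] at h
  rw [← h]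
  simp [wRep_apply, mulVec_single_one, col_apply]

/-- A torus element fixing a weight acts on its weight space by the Weil scalar. -/
theorem scU_apply (hn : 2 ≤ n) (hR : RankOne ψ ρ) (i k : Fin n) (hik : i ≠ k) (x : Fin n → F)
    (hxi : x i = 0) (hxk : x k ≠ 0) {u : V} (hu : u ∈ Wt ρ (chX ψ x)) (a : Fˣ) :
    ρ (lev (scU i a)) u = cL ψ h2 hψ (scU i a) • u := by
  let d : F → V := fun s => (cL ψ h2 hψ (shU i k hik (s / x k)))⁻¹ • ρ (lev (shU i k hik (s / x k))) u
  have hblk : ∀ s, (shU i k hik (s / x k) : Matrix (Fin n) (Fin n) F) *ᵥ x = x + Pi.single i s := fun s => by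
    have := shU_block hik x (s / x k) 0
    rwa [Pi.single_zero, add_zero, zero_add, div_mul_cancel₀ _ hxk] at this
  have hd : ∀ s, d s ∈ Wt ρ (chX ψ (x + Pi.single i s)) := fun s => by
    rw [← hblk s]; exact Submodule.smul_mem _ _ (lev_mem_Wt ψ ρ _ hu)
  have hsh : ∀ r s, ρ (lev (shU i k hik r)) (d s) = cL ψ h2 hψ (shU i k hik r) • d (s + r * x k) := fun r s => by
    simp only [d]
    rw [map_smul, ← Module.End.mul_apply, ← map_mul, ← lev_mul, ← shU_add,
      show r + s / x k = (s + r * x k) / x k by field_simp; ring, smul_smul]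
    refine congrArg (fun c : ℂ => c • _) ?_
    have hc1 := cL_ne_zero ψ h2 hψ (shU i k hik r)
    have hc2 := cL_ne_zero ψ h2 hψ (shU i k hik (s / x k))
    rw [show (s + r * x k) / x k = r + s / x k by field_simp; ring, shU_add, cL_mul]
    field_simp
  obtain ⟨T, hT, hL, hU⟩ := block_maps ψ h2 hψ ρ hn hR i k hik x hxi hxk d hd hsh
  have hS : Com ψ h2 hψ ρ (low (sqE i)) T := hL _
  have hC : Com ψ h2 hψ ρ (lev (scU i a)) T := by
    rw [lev_scU]
    exact (((hU _).mul (hL _)).mul (hU _)).mul (((hU _).mul hS).mul (hU _))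
  have hTx : T (Pi.single x 1) = u := by
    rw [hT, Finset.sum_eq_single (0 : F) (fun b _ hb => by
      rw [Pi.single_eq_of_ne fun e => hb (by simpa [hxi] using congrFun e i), zero_smul]) (by simp)]
    simp [d, shU_zero, lev_one, cL_one]
  have h := LinearMap.congr_fun hC (Pi.single x 1)
  simp only [LinearMap.comp_apply, wRep_lev_single, map_smul, hTx] at h
  rw [scU_mulVec, hxi, mul_zero, Pi.single_zero, add_zero, hTx] at h
  exact h.symm

end CfsgLib.PLocal.WeilGap
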