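import Cfsg.Agent.Lib.PLocal.Weil.Orbit
import Mathlib.LinearAlgebra.QuadraticForm.Basic
import Mathlib.Combinatorics.Enumerative.DoubleCounting
import Mathlib.FieldTheory.Finite.Basic

/-!
# Orbits of quadratic forms over a finite field of odd order

A form which is not a multiple of the square of a linear form has at least
`(q ^ n - 1) (q ^ n - q) / (2 (q + 1))` translates under the general linear group.
-/

set_option autoImplicit false

namespace CfsgLib.PLocal.WeilGap

open Finset Function Matrix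

variable {F : Type*} [Field F] [Fintype F]

/-- The translates of a function under the linear bijections. -/
noncomputable def orb {m : ℕ} (Q : (Fin m → F) → F) : Finset ((Fin m → F) → F) := by
  classical
  exact univ.filter fun P => ∃ f : (Fin m → F) →ₗ[F] (Fin m → F), Injective f ∧ P = Q ∘ f

/-- The number of vectors of a given value. -/
noncomputable def cnt {m : ℕ} (Q : (Fin m → F) → F) (c : F) : ℕ :=
  Nat.card {v // Q v = c}

theorem mem_orb {m : ℕ} {Q P : (Fin m → F) → F} :
    P ∈ orb Q ↔ ∃ f : (Fin m → F) →ₗ[F] (Fin m → F), Injective f ∧ P = Q ∘ f := by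
  simp [orb]

theorem one_le_card_orb {m : ℕ} (Q : (Fin m → F) → F) : 1 ≤ (orb Q).card :=
  card_pos.2 ⟨Q, mem_orb.2 ⟨LinearMap.id, fun _ _ h => h, rfl⟩⟩

theorem cnt_comp {m : ℕ} (Q : (Fin m → F) → F) (f : (Fin m → F) →ₗ[F] (Fin m → F))
    (hf : Injective f) (c : F) : cnt (Q ∘ f) c = cnt Q c :=
  Nat.card_congr (((LinearEquiv.ofInjectiveEndo f hf).toEquiv).subtypeEquiv fun v => Iff.rfl)

theorem cnt_cons {m : ℕ} (Q : (Fin (m + 1) → F) → F) (c : F) :
    cnt Q c = ∑ x : Fin m → F, Nat.card {a // Q (Fin.cons a x) = c} := by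
  classical
  rw [← Nat.card_sigma, cnt]
  exact Nat.card_congr
    { toFun := fun v => ⟨Fin.tail v.1, v.1 0, by rw [Fin.cons_self_tail]; exact v.2⟩
      invFun := fun p => ⟨Fin.cons p.2.1 p.1, p.2.2⟩
      left_inv := fun v => Subtype.ext (Fin.cons_self_tail v.1)
      right_inv := fun p => by
        obtain ⟨x, a, h⟩ := p
        rfl }

/-- A form is split along a vector of nonzero value. -/
theorem exists_split (h2 : (2 : F) ≠ 0) {m : ℕ} (Q : QuadraticMap F (Fin (m + 1) → F) F)
    {v : Fin (m + 1) → F} (hv : Q v ≠ 0) :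
    ∃ f : (Fin (m + 1) → F) →ₗ[F] (Fin (m + 1) → F), Injective f ∧
      ∃ Q' : QuadraticMap F (Fin m → F) F, ∀ a x, Q (f (Fin.cons a x)) = Q v * a ^ 2 + Q' x := by
  classical
  let φ : (Fin (m + 1) → F) →ₗ[F] F := Q.polarBilin v
  have hφv : φ v = 2 * Q v := by
    show QuadraticMap.polar Q v v = _
    rw [QuadraticMap.polar_self, two_smul, two_mul]
  have hφ0 : φ v ≠ 0 := by rw [hφv]; exact mul_ne_zero h2 hv
  have hsurj : LinearMap.range φ = ⊤ := LinearMap.range_eq_top.2 fun t =>
    ⟨(t / φ v) • v, by rw [map_smul, smul_eq_mul, div_mul_cancel₀ _ hφ0]⟩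
  have hk : Module.finrank F (LinearMap.ker φ) = m := by
    have h := φ.finrank_range_add_finrank_ker
    rw [hsurj, finrank_top, Module.finrank_self, Module.finrank_fintype_fun_eq_card,
      Fintype.card_fin] at h
    omega
  let e : (Fin m → F) ≃ₗ[F] LinearMap.ker φ := LinearEquiv.ofFinrankEq _ _ (by
    rw [Module.finrank_fintype_fun_eq_card, Fintype.card_fin, hk])
  let ι : (Fin m → F) →ₗ[F] (Fin (m + 1) → F) := (LinearMap.ker φ).subtype ∘ₗ e.toLinearMap
  have hι : ∀ x, φ (ι x) = 0 := fun x => (e x).2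
  let f : (Fin (m + 1) → F) →ₗ[F] (Fin (m + 1) → F) :=
    { toFun := fun w => w 0 • v + ι (Fin.tail w)
      map_add' := fun a b => by
        rw [show Fin.tail (a + b) = Fin.tail a + Fin.tail b from rfl, map_add, Pi.add_apply, add_smul]
        abel
      map_smul' := fun t a => by
        rw [show Fin.tail (t • a) = t • Fin.tail a from rfl, map_smul, Pi.smul_apply, smul_eq_mul,
          RingHom.id_apply, smul_add, smul_smul] }
  refine ⟨f, (injective_iff_map_eq_zero f).2 fun w hw => ?_, Q.comp ι, fun a x => ?_⟩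
  · change w 0 • v + ι (Fin.tail w) = 0 at hw
    have h := congrArg φ hw
    rw [map_add, map_smul, hι, add_zero, map_zero, smul_eq_mul, mul_eq_zero] at h
    have h0 := h.resolve_right hφ0
    rw [h0, zero_smul, zero_add] at hw
    have hx : Fin.tail w = 0 := e.injective (Subtype.ext (by rw [map_zero]; exact hw))
    exact funext fun i => Fin.cases h0 (fun j => congrFun hx j) i
  · show Q ((Fin.cons a x : Fin (m + 1) → F) 0 • v + ι (Fin.tail (Fin.cons a x : Fin (m + 1) → F))) = _
    rw [Fin.cons_zero, Fin.tail_cons, QuadraticMap.map_add Q, QuadraticMap.map_smul,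
      QuadraticMap.polar_smul_left]
    show _ + Q (ι x) + a • φ (ι x) = _ + Q (ι x)
    rw [hι, smul_zero, add_zero, smul_eq_mul]
    ring

/-- The double count of pairs of a translate and a vector of given value. -/
theorem orb_count (h2 : (2 : F) ≠ 0) {m : ℕ} (Q : (Fin (m + 1) → F) → F)
    (Q' : (Fin m → F) → F) (f : (Fin (m + 1) → F) →ₗ[F] (Fin (m + 1) → F)) (hf : Injective f)
    {c : F} (hc : c ≠ 0) (hQ0 : Q' 0 = 0)
    (h : ∀ a x, Q (f (Fin.cons a x)) = c * a ^ 2 + Q' x) :
    (Fintype.card F ^ (m + 1) - 1) * (Fintype.card F ^ m * (orb Q').card) ≤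
      (orb Q).card * cnt Q c := by
  classical
  set e : Fin (m + 1) → F := Fin.cons 1 0 with he
  have he0 : e ≠ 0 := fun h => one_ne_zero (α := F) (by simpa [e] using congrFun h 0)
  let R : ((Fin (m + 1) → F) → F) → (Fin (m + 1) → F) → Prop := fun P w => P w = c
  -- each translate has `cnt Q c` vectors of value `c`
  have hrow : ∀ P ∈ orb Q, ((univ : Finset (Fin (m + 1) → F)).bipartiteAbove R P).card = cnt Q c := by
    intro P hP
    obtain ⟨g, hg, rfl⟩ := mem_orb.1 hP
    rw [← cnt_comp Q g hg c, cnt, Nat.card_eq_fintype_card, Fintype.card_subtype]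
    congr 1
  -- each nonzero vector has at least `q ^ m |orb Q'|` translates of value `c`
  have hcol : ∀ w : Fin (m + 1) → F, w ≠ 0 →
      Fintype.card F ^ m * (orb Q').card ≤ ((orb Q).bipartiteBelow R w).card := by
    intro w hw
    obtain ⟨A, hA⟩ := Weil.exists_unit_mulVec hw he0
    let g : (Fin (m + 1) → F) →ₗ[F] (Fin (m + 1) → F) :=
      (A : Matrix (Fin (m + 1)) (Fin (m + 1)) F).mulVecLin
    have hg : Injective g := fun a b hab => by
      have := congrArg (fun z => ((A⁻¹ : (Matrix (Fin (m + 1)) (Fin (m + 1)) F)ˣ) :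
        Matrix (Fin (m + 1)) (Fin (m + 1)) F) *ᵥ z) hab
      simpa [g, mulVec_mulVec] using this
    let mk : (Fin m → F) × ((Fin m → F) → F) → (Fin (m + 1) → F) → F := fun p v =>
      c * ((g v) 0 + p.1 ⬝ᵥ Fin.tail (g v)) ^ 2 + p.2 (Fin.tail (g v))
    have hmem : ∀ p ∈ (univ : Finset (Fin m → F)) ×ˢ orb Q', mk p ∈ (orb Q).bipartiteBelow R w := by
      rintro ⟨b, P⟩ hp
      obtain ⟨r, hr, rfl⟩ := mem_orb.1 (mem_product.1 hp).2
      let T : (Fin (m + 1) → F) →ₗ[F] (Fin (m + 1) → F) :=
        { toFun := fun v => Fin.cons (v 0 + b ⬝ᵥ Fin.tail v) (r (Fin.tail v))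
          map_add' := fun x y => by
            rw [show Fin.tail (x + y) = Fin.tail x + Fin.tail y from rfl, map_add, dotProduct_add]
            funext i
            refine Fin.cases ?_ (fun j => ?_) i
            · simp; ring
            · simp
          map_smul' := fun t x => by
            rw [show Fin.tail (t • x) = t • Fin.tail x from rfl, map_smul, dotProduct_smul]
            funext i
            refine Fin.cases ?_ (fun j => ?_) i
            · simp; ring
            · simp }
      have hT : Injective T := (injective_iff_map_eq_zero T).2 fun v hv => by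
        have h0 := congrFun hv 0
        have h1 : Fin.tail v = 0 := hr (by
          rw [map_zero]; exact funext fun j => by simpa [T] using congrFun hv j.succ)
        simp [T, h1] at h0
        exact funext fun i => Fin.cases h0 (fun j => congrFun h1 j) i
      refine mem_filter.2 ⟨mem_orb.2 ⟨f ∘ₗ T ∘ₗ g, hf.comp (hT.comp hg), funext fun v => ?_⟩, ?_⟩
      · show _ = Q (f (T (g v)))
        simp only [T, LinearMap.coe_mk, AddHom.coe_mk, h, mk, Function.comp_apply]
      · have hgw : g w = e := hA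
        show mk (b, Q' ∘ r) w = c
        simp [mk, hgw, e, hQ0]
    have hinj : ∀ p ∈ (univ : Finset (Fin m → F)) ×ˢ orb Q', ∀ p' ∈ (univ : Finset (Fin m → F)) ×ˢ orb Q',
        mk p = mk p' → p = p' := by
      rintro ⟨b, P⟩ - ⟨b', P'⟩ - hpp
      have key : ∀ a x, c * (a + b ⬝ᵥ x) ^ 2 + P x = c * (a + b' ⬝ᵥ x) ^ 2 + P' x := fun a x => by
        obtain ⟨v, hv⟩ := LinearMap.injective_iff_surjective.1 hg (Fin.cons a x)
        have := congrFun hpp v
        simp only [mk, hv, Fin.cons_zero, Fin.tail_cons] at this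
        exact this
      have hb : ∀ x, b ⬝ᵥ x = b' ⬝ᵥ x := fun x =>
        mul_left_cancel₀ (mul_ne_zero h2 hc) (by linear_combination key 1 x - key 0 x)
      refine Prod.ext (funext fun i => by simpa using hb (Pi.single i 1)) (funext fun x => ?_)
      have := key 0 x
      rw [hb] at this
      exact add_left_cancel this
    have := card_le_card_of_injOn mk hmem (fun p hp p' hp' => hinj p hp p' hp')
    rwa [card_product, card_univ, Fintype.card_fun, Fintype.card_fin] at this
  have hsum := sum_card_bipartiteAbove_eq_sum_card_bipartiteBelow (r := R) (s := orb Q)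
    (t := (univ : Finset (Fin (m + 1) → F)))
  rw [sum_congr rfl hrow, sum_const, smul_eq_mul] at hsum
  rw [hsum]
  refine le_trans ?_ (sum_le_sum_of_subset (subset_univ (univ.erase (0 : Fin (m + 1) → F))))
  refine le_trans (le_of_eq ?_) (card_nsmul_le_sum _ _ _ fun w hw => hcol w (ne_of_mem_erase hw))
  rw [smul_eq_mul, card_erase_of_mem (mem_univ _), card_univ, Fintype.card_fun, Fintype.card_fin]

theorem card_sq_le (h2 : (2 : F) ≠ 0) {c : F} (hc : c ≠ 0) (r e : F) :
    Nat.card {a : F // c * a ^ 2 + r = e} ≤ 2 := by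
  classical
  rw [Nat.card_eq_fintype_card, Fintype.card_subtype]
  rcases (univ.filter fun a : F => c * a ^ 2 + r = e).eq_empty_or_nonempty with h | ⟨a0, ha0⟩
  · simp [h]
  refine (card_le_card (t := {a0, -a0}) fun a ha => ?_).trans card_le_two
  rw [mem_filter] at ha ha0
  have : a * a = a0 * a0 := mul_left_cancel₀ hc (by linear_combination ha.2 - ha0.2)
  rcases mul_self_eq_mul_self_iff.1 this with h | h <;> simp [h]

/-- A nonzero form takes each value at most `2 q ^ m` times in dimension `m + 1`. -/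
theorem cnt_le_two (h2 : (2 : F) ≠ 0) {m : ℕ} (Q : QuadraticMap F (Fin (m + 1) → F) F)
    {v : Fin (m + 1) → F} (hv : Q v ≠ 0) (c : F) : cnt Q c ≤ 2 * Fintype.card F ^ m := by
  classical
  obtain ⟨f, hf, Q', hQ⟩ := exists_split h2 Q hv
  rw [← cnt_comp Q f hf c, cnt_cons]
  refine (sum_le_card_nsmul univ _ 2 fun x _ => ?_).trans (le_of_eq ?_)
  · simp only [Function.comp_apply, hQ]
    exact card_sq_le h2 hv _ _
  · rw [card_univ, Fintype.card_fun, Fintype.card_fin, smul_eq_mul, mul_comm]

/-- The orbit of a nonzero form. -/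
theorem two_mul_orb (h2 : (2 : F) ≠ 0) {m : ℕ} (Q : QuadraticMap F (Fin (m + 1) → F) F)
    {v : Fin (m + 1) → F} (hv : Q v ≠ 0) :
    Fintype.card F ^ (m + 1) - 1 ≤ 2 * (orb (Q : (Fin (m + 1) → F) → F)).card := by
  obtain ⟨f, hf, Q', hQ⟩ := exists_split h2 Q hv
  have h := orb_count h2 Q Q' f hf hv (map_zero Q') hQ
  have h' : (Fintype.card F ^ (m + 1) - 1) * (Fintype.card F ^ m * 1) ≤
      (orb (Q : (Fin (m + 1) → F) → F)).card * (2 * Fintype.card F ^ m) :=
    le_trans (Nat.mul_le_mul_left _ (Nat.mul_le_mul_left _ (one_le_card_orb _)))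
      (h.trans (Nat.mul_le_mul_left _ (cnt_le_two h2 Q hv _)))
  refine Nat.le_of_mul_le_mul_right ?_ (pow_pos Fintype.card_pos m : 0 < Fintype.card F ^ m)
  linarith

/-- The representations of a nonzero value by a binary form. -/
theorem binary_const (h2 : (2 : F) ≠ 0) {c1 c2 : F} (h1 : c1 ≠ 0) (h2' : c2 ≠ 0) {e e' : F}
    (he : e ≠ 0) (he' : e' ≠ 0) :
    Nat.card {p : F × F // c1 * p.1 ^ 2 + c2 * p.2 ^ 2 = e} ≤
      Nat.card {p : F × F // c1 * p.1 ^ 2 + c2 * p.2 ^ 2 = e'} := by
  classical
  obtain ⟨d, rfl⟩ : ∃ d, c2 = c1 * d := ⟨c2 / c1, by field_simp⟩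
  have hd : d ≠ 0 := (mul_ne_zero_iff.1 h2').2
  open Polynomial in
  obtain ⟨u, w, huw⟩ : ∃ u w : F, u ^ 2 + d * w ^ 2 = e' / e := by
    obtain ⟨a, b, hab⟩ := FiniteField.exists_root_sum_quadratic (R := F)
      (f := Polynomial.C 1 * Polynomial.X ^ 2)
      (g := Polynomial.C d * Polynomial.X ^ 2 - Polynomial.C (e' / e))
      (degree_C_mul_X_pow 2 one_ne_zero) (by
        rw [degree_sub_C (by rw [degree_C_mul_X_pow 2 hd]; norm_num), degree_C_mul_X_pow 2 hd]; rfl)
      (FiniteField.odd_card_of_char_ne_two fun h => h2 (by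
          have := ringChar.Nat.cast_ringChar (R := F); rw [h] at this; exact_mod_cast this))
    simp only [Polynomial.eval_mul, Polynomial.eval_C, Polynomial.eval_pow, Polynomial.eval_X,
      Polynomial.eval_sub] at hab
    exact ⟨a, b, by linear_combination hab⟩
  have huw0 : u ^ 2 + d * w ^ 2 ≠ 0 := huw ▸ div_ne_zero he' he
  refine Nat.card_le_card_of_injective
    (fun p => ⟨(p.1.1 * u - d * p.1.2 * w, p.1.1 * w + p.1.2 * u), ?_⟩) ?_
  · have hp := p.2
    have : e' = e * (u ^ 2 + d * w ^ 2) := by rw [huw]; field_simp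
    rw [this]
    linear_combination (u ^ 2 + d * w ^ 2) * hp
  · intro p p' h
    simp only [Subtype.mk.injEq, Prod.mk.injEq] at h
    exact Subtype.ext (Prod.ext
      (mul_left_cancel₀ huw0 (by linear_combination u * h.1 + d * w * h.2))
      (mul_left_cancel₀ huw0 (by linear_combination u * h.2 - w * h.1)))

/-- The two cases of a binary form. -/
theorem binary_bound (h2 : (2 : F) ≠ 0) {c1 c2 : F} (h1 : c1 ≠ 0) (h2' : c2 ≠ 0) :
    ∃ N N0 : ℕ, (∀ e, e ≠ 0 → Nat.card {p : F × F // c1 * p.1 ^ 2 + c2 * p.2 ^ 2 = e} = N) ∧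
      Nat.card {p : F × F // c1 * p.1 ^ 2 + c2 * p.2 ^ 2 = 0} = N0 ∧
      (N = Fintype.card F + 1 ∧ N0 = 1 ∨ N + 1 = Fintype.card F ∧ N0 + 1 = 2 * Fintype.card F) := by
  classical
  set P : F → Type _ := fun e => {p : F × F // c1 * p.1 ^ 2 + c2 * p.2 ^ 2 = e}
  have hN : ∀ e, e ≠ 0 → Nat.card (P e) = Nat.card (P 1) := fun e he =>
    le_antisymm (binary_const h2 h1 h2' he one_ne_zero) (binary_const h2 h1 h2' one_ne_zero he)
  have htot : (Fintype.card F - 1) * Nat.card (P 1) + Nat.card (P 0) = Fintype.card F ^ 2 := by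
    have h := Nat.card_congr (Equiv.sigmaFiberEquiv fun p : F × F => c1 * p.1 ^ 2 + c2 * p.2 ^ 2)
    rw [Nat.card_sigma, Nat.card_prod, Nat.card_eq_fintype_card (α := F), ← sq,
      ← sum_erase_add _ _ (mem_univ (0 : F)),
      sum_congr rfl fun e he => hN e (ne_of_mem_erase he), sum_const, card_erase_of_mem (mem_univ _),
      card_univ, smul_eq_mul] at h
    exact h
  obtain ⟨q, hq⟩ : ∃ q, Fintype.card F = q + 2 :=
    ⟨Fintype.card F - 2, by have := Fintype.one_lt_card (α := F); omega⟩
  refine ⟨Nat.card (P 1), Nat.card (P 0), hN, rfl, ?_⟩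
  rw [hq] at htot ⊢
  rw [show q + 2 - 1 = q + 1 from rfl] at htot
  by_cases hs : ∃ s, c1 * s ^ 2 + c2 = 0
  · obtain ⟨s, hs⟩ := hs
    have hs0 : s ≠ 0 := fun h => h2' (by rw [h] at hs; linear_combination hs)
    have h0 : Nat.card (P 0) + 1 = 2 * (q + 2) := by
      have hset : (univ.filter fun p : F × F => c1 * p.1 ^ 2 + c2 * p.2 ^ 2 = 0) =
          (univ.image fun b : F => (s * b, b)) ∪ (univ.image fun b : F => (-s * b, b)) := by
        ext ⟨a, b⟩
        simp only [mem_filter, mem_univ, true_and, mem_union, mem_image, Prod.mk.injEq,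
          exists_eq_right]
        constructor
        · intro h
          have : a * a = (s * b) * (s * b) := mul_left_cancel₀ h1 (by linear_combination h - b ^ 2 * hs)
          rcases mul_self_eq_mul_self_iff.1 this with h | h
          · exact .inl h.symm
          · exact .inr (by rw [h]; ring)
        · rintro (rfl | rfl) <;> linear_combination b ^ 2 * hs
      have hint : (univ.image fun b : F => (s * b, b)) ∩ (univ.image fun b : F => (-s * b, b)) =
          {((0 : F), (0 : F))} := by
        ext ⟨a, b⟩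
        simp only [mem_inter, mem_image, mem_univ, true_and, Prod.mk.injEq, exists_eq_right,
          mem_singleton]
        constructor
        · rintro ⟨rfl, hb⟩
          have : b = 0 := mul_left_cancel₀ (mul_ne_zero h2 hs0) (by linear_combination -hb)
          simp [this]
        · rintro ⟨rfl, rfl⟩; simp
      have h := card_union_add_card_inter (univ.image fun b : F => (s * b, b))
        (univ.image fun b : F => (-s * b, b))
      rw [← hset, hint, card_singleton, card_image_of_injective _ fun a b h => (Prod.ext_iff.1 h).2,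
        card_image_of_injective _ fun a b h => (Prod.ext_iff.1 h).2, card_univ, hq] at h
      rw [Nat.card_eq_fintype_card, Fintype.card_subtype]
      omega
    right
    exact ⟨by nlinarith, h0⟩
  · push Not at hs
    have h0 : Nat.card (P 0) = 1 := by
      rw [Nat.card_eq_one_iff_unique]
      refine ⟨⟨fun x y => ?_⟩, ⟨⟨(0, 0), by simp⟩⟩⟩
      suffices h : ∀ z : P 0, z.1 = (0, 0) from Subtype.ext ((h x).trans (h y).symm)
      rintro ⟨⟨a, b⟩, hab⟩
      have hb : b = 0 := by
        by_contra hb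
        exact hs (a / b) (by field_simp; linear_combination hab)
      subst hb
      have : c1 * a ^ 2 = 0 := by linear_combination hab
      rw [mul_eq_zero, pow_eq_zero_iff two_ne_zero] at this
      simp [this.resolve_left h1]
    left
    exact ⟨by nlinarith, h0⟩

/-- The orbit of a form of rank at least two. -/
theorem orb_big (h2 : (2 : F) ≠ 0) {n : ℕ} (hn : 2 ≤ n) (Q : QuadraticMap F (Fin n → F) F)
    (hQ : ∀ (a : F) (φ : (Fin n → F) →ₗ[F] F), ∃ v, Q v ≠ a * φ v ^ 2) :
    (Fintype.card F ^ n - 1) * (Fintype.card F ^ n - Fintype.card F) ≤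
      2 * (Fintype.card F + 1) * (orb (Q : (Fin n → F) → F)).card := by
  classical
  obtain ⟨k, rfl⟩ : ∃ k, n = k + 2 := ⟨n - 2, by omega⟩
  obtain ⟨v, hv⟩ := hQ 0 0
  simp only [zero_mul] at hv
  obtain ⟨f, hf, Q', hQ'⟩ := exists_split h2 Q hv
  obtain ⟨x, hx⟩ : ∃ x, Q' x ≠ 0 := by
    by_contra! hc
    let fe := LinearEquiv.ofInjectiveEndo f hf
    obtain ⟨w, hw⟩ := hQ (Q v) ((LinearMap.proj (0 : Fin (k + 2))) ∘ₗ fe.symm.toLinearMap)
    refine hw ?_
    have := hQ' (fe.symm w 0) (Fin.tail (fe.symm w))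
    rw [Fin.cons_self_tail, hc, add_zero] at this
    rwa [show f (fe.symm w) = w from fe.apply_symm_apply w] at this
  obtain ⟨g, hg, R, hR⟩ := exists_split h2 Q' hx
  set q := Fintype.card F with hqdef
  obtain ⟨N, N0, hN, hN0, hcases⟩ := binary_bound h2 hv hx
  -- the fibres over the last coordinates
  have hsum : cnt Q (Q v) = ∑ z : Fin k → F,
      Nat.card {p : F × F // Q v * p.1 ^ 2 + Q' x * p.2 ^ 2 = Q v - R z} := by
    rw [← Nat.card_sigma, ← cnt_comp Q f hf, cnt]
    let ge := LinearEquiv.ofInjectiveEndo g hg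
    exact Nat.card_congr
      { toFun := fun w => ⟨Fin.tail (ge.symm (Fin.tail w.1)), (w.1 0, ge.symm (Fin.tail w.1) 0), by
          have h1 := w.2
          rw [Function.comp_apply, ← Fin.cons_self_tail w.1, hQ'] at h1
          have h3 := hR (ge.symm (Fin.tail w.1) 0) (Fin.tail (ge.symm (Fin.tail w.1)))
          rw [Fin.cons_self_tail, show g (ge.symm (Fin.tail w.1)) = Fin.tail w.1 from ge.apply_symm_apply _] at h3
          simp only [Fin.cons_self_tail] at h1 ⊢
          linear_combination h1 - h3⟩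
        invFun := fun s => ⟨Fin.cons s.2.1.1 (ge (Fin.cons s.2.1.2 s.1)), by
          rw [Function.comp_apply, hQ', show ge (Fin.cons s.2.1.2 s.1) = g (Fin.cons s.2.1.2 s.1) from rfl, hR]
          linear_combination s.2.2⟩
        left_inv := fun w => Subtype.ext (by simp)
        right_inv := fun s => by
          obtain ⟨z, ⟨a, b⟩, h⟩ := s
          apply Sigma.subtype_ext <;> simp }
  -- the bound on the number of vectors of value `Q v`
  have hS : cnt Q (Q v) ≤ q ^ k * (q + 1) := by
    have hle : cnt Q (Q v) + cnt R (Q v) * N = q ^ k * N + cnt R (Q v) * N0 := by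
      have h : ∀ z, Nat.card {p : F × F // Q v * p.1 ^ 2 + Q' x * p.2 ^ 2 = Q v - R z} +
          (if R z = Q v then N else 0) = N + (if R z = Q v then N0 else 0) := fun z => by
        by_cases hz : R z = Q v
        · simp only [hz, sub_self, if_true, hN0]; omega
        · rw [hN _ (sub_ne_zero.2 (Ne.symm hz))]; simp [hz]
      have hs := sum_congr rfl fun z (_ : z ∈ (univ : Finset (Fin k → F))) => h z
      rw [sum_add_distrib, sum_add_distrib, ← hsum, sum_const, card_univ, Fintype.card_fun,
        Fintype.card_fin, ← sum_filter, ← sum_filter, sum_const, sum_const, smul_eq_mul, smul_eq_mul,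
        smul_eq_mul, ← Fintype.card_subtype, ← Nat.card_eq_fintype_card] at hs
      exact hs
    rcases hcases with ⟨rfl, rfl⟩ | ⟨hN1, hN01⟩
    · nlinarith [Nat.zero_le (cnt R (Q v)), Nat.zero_le (cnt R (Q v) * q)]
    · have hR : cnt R (Q v) * q ≤ 2 * q ^ k := by
        by_cases hz : ∃ z, R z ≠ 0
        · obtain ⟨z, hz⟩ := hz
          rcases k with _ | j
          · exact absurd (by rw [Subsingleton.elim z 0]; exact map_zero R) hz
          · calc cnt R (Q v) * q ≤ 2 * q ^ j * q := Nat.mul_le_mul_right _ (cnt_le_two h2 R hz _)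
              _ = 2 * q ^ (j + 1) := by ring
        · push Not at hz
          have : cnt R (Q v) = 0 := by
            rw [cnt, Nat.card_eq_zero]
            exact .inl ⟨fun z => hv (by rw [← z.2, hz])⟩
          simp [this]
      have e1 : cnt R (Q v) * N0 = cnt R (Q v) * N + cnt R (Q v) * q := by
        rw [show N0 = N + q by omega]; ring
      have e2 : q ^ k * (q + 1) = q ^ k * N + 2 * q ^ k := by
        rw [show q = N + 1 by omega]; ring
      omega
  have hcount := orb_count h2 Q Q' f hf hv (map_zero Q') hQ'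
  have hO' := two_mul_orb h2 Q' hx
  have key : (q ^ (k + 1 + 1) - 1) * (q ^ (k + 1) * (q ^ (k + 1) - 1)) ≤
      2 * (orb (Q : (Fin (k + 2) → F) → F)).card * (q ^ k * (q + 1)) :=
    calc _ ≤ (q ^ (k + 1 + 1) - 1) * (q ^ (k + 1) * (2 * (orb (Q' : (Fin (k + 1) → F) → F)).card)) :=
          Nat.mul_le_mul_left _ (Nat.mul_le_mul_left _ hO')
      _ = 2 * ((q ^ (k + 1 + 1) - 1) * (q ^ (k + 1) * (orb (Q' : (Fin (k + 1) → F) → F)).card)) := by ring
      _ ≤ 2 * ((orb (Q : (Fin (k + 2) → F) → F)).card * (q ^ k * (q + 1))) :=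
          Nat.mul_le_mul_left _ (hcount.trans (Nat.mul_le_mul_left _ hS))
      _ = _ := by ring
  refine Nat.le_of_mul_le_mul_right ?_ (pow_pos Fintype.card_pos k : 0 < q ^ k)
  have hsub : q ^ (k + 2) - q = q * (q ^ (k + 1) - 1) := by
    rw [Nat.mul_sub, mul_one]; ring_nf
  rw [hsub]
  calc (q ^ (k + 2) - 1) * (q * (q ^ (k + 1) - 1)) * q ^ k
      = (q ^ (k + 1 + 1) - 1) * (q ^ (k + 1) * (q ^ (k + 1) - 1)) := by ring
    _ ≤ _ := key
    _ = _ := by ring

end CfsgLib.PLocal.WeilGap
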