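import Cfsg.Agent.Lib.PLocal.Weil.Degree
import Cfsg.Agent.Lib.PLocal.WeilGap.Forms

/-!
# Representations with an eigencharacter of rank at least two
-/

set_option autoImplicit false

namespace CfsgLib.PLocal.WeilGap

open Matrix CfsgLib.PLocal.Weil

variable {F : Type*} [Field F] [Fintype F] {n : ℕ}
variable {V : Type*} [AddCommGroup V] [Module ℂ V]

/-- The functional `S ↦ xᵀ S x` of a vector. -/
def sqf (x : Fin n → F) : SymM F n →ₗ[F] F where
  toFun S := x ⬝ᵥ S.1 *ᵥ x
  map_add' S T := by simp [add_mulVec, dotProduct_add]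
  map_smul' a S := by simp [smul_mulVec, dotProduct_smul]

/-- All eigencharacters of the Siegel subgroup have rank at most one. -/
def RankOne (ψ : AddChar F ℂ) (ρ : Representation ℂ (Matrix.symplecticGroup (Fin n) F) V) : Prop :=
  ∀ (χ : AddChar (SymM F n) ℂ) (v : V), v ≠ 0 → (∀ S, tOp ρ S v = χ S • v) →
    ∃ (b : F) (y : Fin n → F), ∀ S, χ S = ψ (b * sqf y S)

omit [Fintype F] in
theorem symPair_add_left (u v w : Fin n → F) : symPair (u + v) w = symPair u w + symPair v w := by
  apply Subtype.ext; simp [symPair, vecMulVec_add, add_vecMulVec]; abel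

omit [Fintype F] in
theorem symPair_comm (u v : Fin n → F) : symPair u v = symPair v u := by
  apply Subtype.ext; simp [symPair, add_comm]

omit [Fintype F] in
theorem symPair_smul_left (a : F) (v w : Fin n → F) : symPair (a • v) w = a • symPair v w := by
  apply Subtype.ext; simp [symPair, vecMulVec_smul, smul_vecMulVec]

omit [Fintype F] in
theorem sqf_symPair (y v w : Fin n → F) : sqf y (symPair v w) = 2 * ((y ⬝ᵥ v) * (y ⬝ᵥ w)) := by
  show y ⬝ᵥ (vecMulVec v w + vecMulVec w v) *ᵥ y = _
  rw [add_mulVec, dotProduct_add, vecMulVec_mulVec, vecMulVec_mulVec, op_smul_eq_smul, op_smul_eq_smul,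
    dotProduct_smul, dotProduct_smul, smul_eq_mul, smul_eq_mul, dotProduct_comm w y, dotProduct_comm v y]
  ring

omit [Fintype F] in
/-- Functionals with equal quadratic forms are equal. -/
theorem ext_symPair (h2 : (2 : F) ≠ 0) {l l' : SymM F n →ₗ[F] F}
    (h : ∀ v, l (symPair v v) = l' (symPair v v)) : l = l' := by
  rw [← sub_eq_zero]
  refine eq_zero_of_symPair h2 _ fun v w => ?_
  have hv : ∀ v, (l - l') (symPair v v) = 0 := fun v => by rw [LinearMap.sub_apply, h, sub_self]
  have h1 := hv (v + w)
  rw [symPair_add_left, symPair_comm v (v + w), symPair_comm w (v + w), symPair_add_left, symPair_add_left,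
    map_add, map_add, map_add, hv, hv, zero_add, add_zero, symPair_comm w v, ← two_mul, mul_eq_zero] at h1
  exact h1.resolve_left h2

/-- The quadratic form of a functional. -/
noncomputable def qf (l : SymM F n →ₗ[F] F) : QuadraticMap F (Fin n → F) F :=
  LinearMap.BilinMap.toQuadraticMap (LinearMap.mk₂ F (fun v w => l (symPair v w) / 2)
    (fun a b c => by rw [symPair_add_left, map_add, add_div])
    (fun a b c => by rw [symPair_smul_left, map_smul, smul_eq_mul, smul_eq_mul, mul_div_assoc])
    (fun a b c => by rw [symPair_comm, symPair_add_left, map_add, add_div, symPair_comm b a, symPair_comm c a])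
    (fun a b c => by
      rw [symPair_comm, symPair_smul_left, map_smul, smul_eq_mul, smul_eq_mul, mul_div_assoc, symPair_comm c b]))

omit [Fintype F] in
theorem qf_apply (l : SymM F n →ₗ[F] F) (v : Fin n → F) : qf l v = l (symPair v v) / 2 := rfl

/-- An eigencharacter of rank at least two forces a large degree. -/
theorem finrank_ge_of_not_rankOne [DecidableEq F] (hn : 2 ≤ n) (h2 : (2 : F) ≠ 0) (ψ : AddChar F ℂ)
    (hψ : ψ.IsPrimitive) [FiniteDimensional ℂ V]
    (ρ : Representation ℂ (Matrix.symplecticGroup (Fin n) F) V) (h : ¬ RankOne ψ ρ) :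
    (Fintype.card F ^ n - 1) * (Fintype.card F ^ n - Fintype.card F) ≤
      2 * (Fintype.card F + 1) * Module.finrank ℂ V := by
  classical
  simp only [RankOne, not_forall, exists_prop, not_exists] at h
  obtain ⟨χ, v, hv, hχv, hno⟩ := h
  obtain ⟨l, hl⟩ := exists_functional ψ hψ χ
  have hQ : ∀ (a : F) (φ : (Fin n → F) →ₗ[F] F), ∃ w, qf l w ≠ a * φ w ^ 2 := by
    intro a φ
    by_contra! hc
    obtain ⟨S, hS⟩ := hno a (fun j => φ (Pi.single j 1))
    refine hS ?_
    rw [hl]
    have hφ : ∀ w, φ w = (fun j => φ (Pi.single j 1)) ⬝ᵥ w := fun w => by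
      conv_lhs => rw [← Finset.univ_sum_single w, map_sum]
      refine Finset.sum_congr rfl fun j _ => ?_
      rw [show (Pi.single j (w j) : Fin n → F) = w j • Pi.single j 1 by rw [← Pi.single_smul, smul_eq_mul, mul_one],
        map_smul, smul_eq_mul, mul_comm]
    have : l = a • sqf (fun j => φ (Pi.single j 1)) := ext_symPair h2 fun w => by
      have h1 := hc w
      rw [qf_apply, div_eq_iff h2] at h1
      rw [h1, LinearMap.smul_apply, sqf_symPair, ← hφ, smul_eq_mul]
      ring
    rw [this]; rfl
  have hA : ∀ P : {P // P ∈ orb (qf l : (Fin n → F) → F)}, ∃ A : (Matrix (Fin n) (Fin n) F)ˣ,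
      ∀ w, P.1 w = qf l ((A : Matrix (Fin n) (Fin n) F) *ᵥ w) := by
    intro P
    obtain ⟨f, hf, hP⟩ := mem_orb.1 P.2
    obtain ⟨u, hu⟩ := (Matrix.mulVec_injective_iff_isUnit (A := LinearMap.toMatrix' f)).1 fun a b hab => hf (by
      simpa [LinearMap.toMatrix'_mulVec] using hab)
    exact ⟨u, fun w => by rw [hu, LinearMap.toMatrix'_mulVec, hP]; rfl⟩
  choose A hA using hA
  let B : {P // P ∈ orb (qf l : (Fin n → F) → F)} → (Matrix (Fin n) (Fin n) F)ˣ := fun P =>
    ⟨(A P : Matrix (Fin n) (Fin n) F)ᵀ, ((A P)⁻¹ : (Matrix (Fin n) (Fin n) F)ˣ).1ᵀ,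
      by rw [← transpose_mul, Units.inv_mul, transpose_one], by rw [← transpose_mul, Units.mul_inv, transpose_one]⟩
  let χs : {P // P ∈ orb (qf l : (Fin n → F) → F)} → AddChar (SymM F n) ℂ := fun P =>
    ψ.compAddMonoidHom (l.comp (cong (A P : Matrix (Fin n) (Fin n) F))).toAddMonoidHom
  have hinj : Function.Injective χs := fun P P' hPP => Subtype.ext (funext fun w => by
    have key : ∀ t : F, ψ (l (cong (A P).1 (symPair w w)) * t) = ψ (l (cong (A P').1 (symPair w w)) * t) :=
      fun t => by
        have := DFunLike.congr_fun hPP (t • symPair w w)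
        simpa [χs, mul_comm] using this
    rw [hA, hA, qf_apply, qf_apply, ← cong_symPair, ← cong_symPair,
      AddChar.to_mulShift_inj_of_isPrimitive hψ (DFunLike.ext (ψ.mulShift _) (ψ.mulShift _) key)])
  have hli := linearIndependent_eigen ρ χs hinj (fun P => ρ (lev (B P)) v)
    (fun P h => hv (by
      have := congrArg (ρ (lev (B P))⁻¹) h
      rwa [← Module.End.mul_apply, ← map_mul, inv_mul_cancel, map_one, map_zero, Module.End.one_apply] at this))
    (fun P S => by
      show ρ (low S) (ρ (lev (B P)) v) = _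
      rw [← Module.End.mul_apply, ← map_mul, low_mul_lev (A P) (B P) rfl, map_mul, Module.End.mul_apply,
        show ρ (low (cong (A P : Matrix (Fin n) (Fin n) F) S)) v = χ (cong (A P : Matrix (Fin n) (Fin n) F) S) • v
          from hχv _, map_smul, hl]
      rfl)
  have h3 := hli.fintype_card_le_finrank
  rw [Fintype.card_coe] at h3
  exact (orb_big h2 hn (qf l) hQ).trans (Nat.mul_le_mul_left _ h3)

end CfsgLib.PLocal.WeilGap
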