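import Cfsg.Agent.Lib.PLocal.WeilGap.Unique
import Mathlib.NumberTheory.LegendreSymbol.AddCharacter

/-!
# The small irreducible degrees of symplectic groups in odd characteristic
-/

set_option autoImplicit false

namespace CfsgLib.PLocal.WeilGap

open Matrix CfsgLib.PLocal.Weil

variable {F : Type*} [Field F] [Fintype F]

noncomputable local instance instFintypeSymMCount {n : ℕ} : Fintype (SymM F n) := Fintype.ofFinite _

theorem exists_class (h2 : (2 : F) ≠ 0) :
    ∃ ν : F, ν ≠ 0 ∧ ¬IsSquare ν ∧ ∀ c : F, c ≠ 0 → ∃ a : F, a ≠ 0 ∧ (c = a * a ∨ c = ν * (a * a)) := by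
  have hc : ringChar F ≠ 2 := fun h => h2 (by
    have := ringChar.Nat.cast_ringChar (R := F); rw [h] at this; exact_mod_cast this)
  obtain ⟨ν, hν⟩ := FiniteField.exists_nonsquare hc
  have hν0 : ν ≠ 0 := fun e => hν (e ▸ IsSquare.zero)
  refine ⟨ν, hν0, hν, fun c hc0 => ?_⟩
  by_cases h : IsSquare c
  · obtain ⟨a, rfl⟩ := h
    exact ⟨a, left_ne_zero_of_mul hc0, .inl rfl⟩
  have hn : ∀ e : F, e ≠ 0 → ¬IsSquare e → e ^ (Fintype.card F / 2) = -1 := fun e he hs =>
    (FiniteField.pow_dichotomy hc he).resolve_left fun e1 => hs ((FiniteField.isSquare_iff hc he).2 e1)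
  obtain ⟨a, ha⟩ := (FiniteField.isSquare_iff hc (div_ne_zero hc0 hν0)).2 (by
    rw [div_pow, hn c hc0 h, hn ν hν0 hν, div_self (neg_ne_zero.2 one_ne_zero)])
  have ha' : c = ν * (a * a) := by rw [← ha]; field_simp
  exact ⟨a, fun e => hc0 (by rw [ha', e]; ring), .inr ha'⟩

theorem isPrimitive_mulShift {ψ : AddChar F ℂ} (hψ : ψ.IsPrimitive) {ν : F} (hν : ν ≠ 0) :
    (ψ.mulShift ν).IsPrimitive := fun a ha => by
  rw [AddChar.mulShift_mulShift]; exact hψ (mul_ne_zero hν ha)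

theorem rankOne_mulShift {n : ℕ} {V : Type*} [AddCommGroup V] [Module ℂ V]
    {ρ : Representation ℂ (Matrix.symplecticGroup (Fin n) F) V} {ψ : AddChar F ℂ} {ν : F} (hν : ν ≠ 0)
    (h : RankOne ψ ρ) : RankOne (ψ.mulShift ν) ρ := fun χ v hv hχ => by
  obtain ⟨b, y, hy⟩ := h χ v hv hχ
  exact ⟨b / ν, y, fun S => by rw [hy, AddChar.mulShift_apply]; congr 1; field_simp⟩

variable [DecidableEq F]

theorem trace_prj {n : ℕ} {V : Type*} [AddCommGroup V] [Module ℂ V]
    (ρ : Representation ℂ (Matrix.symplecticGroup (Fin n) F) V) (χ : AddChar (SymM F n) ℂ) :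
    LinearMap.trace ℂ V (prj ρ χ) = (Fintype.card (SymM F n) : ℂ)⁻¹ * ∑ S, χ (-S) * ρ.character (low S) := by
  simp [prj, Representation.character, tOp]

/-- The two classes give different blocks. -/
theorem character_bRep_ne {n : ℕ} (hn : 2 ≤ n) (h2 : (2 : F) ≠ 0) {ψ : AddChar F ℂ} (hψ : ψ.IsPrimitive)
    {ν : F} (hν : ν ≠ 0) (hsq : ¬IsSquare ν) {η : ℂ} (hη : η * η = 1) :
    (bRep ψ h2 hψ n η).character ≠
      (bRep (ψ.mulShift ν) h2 (isPrimitive_mulShift hψ hν) n η).character := by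
  classical
  intro h
  let i : Fin n := ⟨0, by omega⟩
  set x : Fin n → F := Pi.single i 1 with hx
  have hx0 : x ≠ 0 := by simp [hx]
  set ψ' := ψ.mulShift ν
  set hψ' := isPrimitive_mulShift hψ hν
  set ρ := bRep ψ h2 hψ n η with hρ
  set ρ' := bRep ψ' h2 hψ' n η with hρ'
  set χ := chX ψ x with hχ
  have hzero : prj ρ' χ = 0 := LinearMap.ext fun f => by
    by_contra hne
    set f' := prj ρ' χ f
    obtain ⟨z, hz⟩ := Function.ne_iff.1 (show f'.1 ≠ 0 from fun e => hne (Subtype.ext e))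
    have hagree : ∀ S, χ S = chX ψ' z S := fun S => by
      have h1 := congrFun (congrArg Subtype.val (prj_mem ρ' χ f S)) z
      rw [tOp, hρ', bRep_val, wRep_low_apply ψ' h2 hψ' hn] at h1
      exact (mul_right_cancel₀ hz h1).symm
    have h1 := func_eq hψ ((-(2 : F)⁻¹) • sqf x) ((ν * (-(2 : F)⁻¹)) • sqf z) (sqE i) fun t => by
      have h3 := hagree (t • sqE i)
      show ψ ((-(2 : F)⁻¹) * sqf x (t • sqE i)) = ψ (ν * (-(2 : F)⁻¹) * sqf z (t • sqE i))
      refine h3.trans ?_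
      show ψ' ((-(2 : F)⁻¹) * sqf z (t • sqE i)) = _
      rw [AddChar.mulShift_apply, mul_assoc]
    simp [sqf, sqE, single_mulVec, hx, Function.update_apply, dotProduct, Pi.single_apply] at h1
    refine hsq ⟨(z i)⁻¹, ?_⟩
    have h4 : ν * (z i * z i) = 1 := mul_left_cancel₀ (inv_ne_zero h2) (by linear_combination -h1)
    have hzi : z i ≠ 0 := fun e => by simp [e] at h4
    field_simp
    linear_combination h4
  have h1 : LinearMap.trace ℂ _ (prj ρ χ) = LinearMap.trace ℂ _ (prj ρ' χ) := by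
    rw [trace_prj, trace_prj, h]
  rw [hzero, map_zero] at h1
  have hproj : LinearMap.IsProj (Wt ρ χ) (prj ρ χ) :=
    ⟨prj_mem ρ χ, fun f hf => by rw [prj_apply ρ χ χ hf, if_pos rfl]⟩
  haveI : Module.Free ℂ (Wt ρ χ) := Module.Free.of_divisionRing ℂ (Wt ρ χ)
  haveI : Module.Free ℂ (LinearMap.ker (prj ρ χ)) := Module.Free.of_divisionRing ℂ (LinearMap.ker (prj ρ χ))
  rw [hproj.trace, Nat.cast_eq_zero, Submodule.finrank_eq_zero] at h1
  have hm : (⟨dW η x, dW_mem hη x⟩ : Vp n F η) ∈ Wt ρ χ := fun S =>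
    Subtype.ext ((fam_dW ψ h2 hψ hn η).wt x hx0 S)
  rw [h1, Submodule.mem_bot] at hm
  have := congrFun (congrArg Subtype.val hm) x
  simp [dW_apply_self h2 η hx0] at this

/-- A nontrivial irreducible representation is either large or a block of a Weil representation. -/
theorem large_or_block {n : ℕ} (hn : 2 ≤ n) (h2 : (2 : F) ≠ 0) {ψ : AddChar F ℂ} (hψ : ψ.IsPrimitive)
    {ν : F} (hν : ν ≠ 0) (hcl : ∀ c : F, c ≠ 0 → ∃ a : F, a ≠ 0 ∧ (c = a * a ∨ c = ν * (a * a)))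
    {V : Type*} [AddCommGroup V] [Module ℂ V] [FiniteDimensional ℂ V]
    (ρ : Representation ℂ (Matrix.symplecticGroup (Fin n) F) V) [hirr : ρ.IsIrreducible]
    (h1 : Module.finrank ℂ V ≠ 1) :
    (Fintype.card F ^ n - 1) * (Fintype.card F ^ n - Fintype.card F) ≤
        2 * (Fintype.card F + 1) * Module.finrank ℂ V ∨
      ∃ η : ℂ, η * η = 1 ∧ (ρ.character = (bRep ψ h2 hψ n η).character ∨
        ρ.character = (bRep (ψ.mulShift ν) h2 (isPrimitive_mulShift hψ hν) n η).character) := by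
  classical
  by_cases hR : RankOne ψ ρ
  swap
  · exact .inl (finrank_ge_of_not_rankOne hn h2 ψ hψ ρ hR)
  right
  have hne : ∃ S, tOp ρ S ≠ 1 := by
    by_contra! hall
    have hfix := fixed_of_low_trivial hn (⊤ : Submodule ℂ V) (fun g v _ => trivial)
      (fun S v _ => LinearMap.congr_fun (hall S) v)
    obtain ⟨v, hv⟩ := (CfsgLib.Char.nontrivial_of_irreducible ρ).exists_pair_ne.elim
      fun a ⟨b, hab⟩ => (⟨a - b, sub_ne_zero.2 hab⟩ : ∃ v : V, v ≠ 0)
    have := hirr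
    rw [Representation.IsIrreducible] at this
    rcases this.eq_bot_or_eq_top ⟨Submodule.span ℂ {v}, fun g w hw => by rwa [hfix g w trivial]⟩ with h | h
    · have he : Submodule.span ℂ {v} = (⊥ : Submodule ℂ V) := congrArg Subrepresentation.toSubmodule h
      have hm : v ∈ (⊥ : Submodule ℂ V) := he ▸ Submodule.mem_span_singleton_self v
      exact hv ((Submodule.mem_bot ℂ).1 hm)
    · have he : Submodule.span ℂ {v} = (⊤ : Submodule ℂ V) := congrArg Subrepresentation.toSubmodule h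
      have := finrank_span_singleton (K := ℂ) hv
      rw [he, finrank_top] at this
      exact h1 this
  obtain ⟨χ, u, hχ, hu, hχu⟩ := exists_eigen ρ hne
  obtain ⟨b, y, hby⟩ := hR χ u hu hχu
  have hb : b ≠ 0 := fun e => hχ (DFunLike.ext _ _ fun S => by simp [hby, e])
  have hy : y ≠ 0 := fun e => hχ (DFunLike.ext _ _ fun S => by simp [hby, e, sqf])
  obtain ⟨a, ha, hcase⟩ := hcl (-(2 * b)) (neg_ne_zero.2 (mul_ne_zero h2 hb))
  have hval : ∀ S : SymM F n, sqf (a • y) S = a * a * sqf y S := fun S => by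
    simp [sqf, mulVec_smul, mul_assoc]
  rcases hcase with hc | hc
  · have hw : u ∈ Wt ρ (chX ψ (a • y)) := fun S => by
      rw [hχu, hby, show chX ψ (a • y) S = ψ ((-(2 : F)⁻¹) * sqf (a • y) S) from rfl, hval, ← hc]
      congr 2
      field_simp
    obtain ⟨η, hη, he⟩ := exists_eq_bRep ψ h2 hψ hn ρ hR (smul_ne_zero ha hy) hu hw
    exact ⟨η, hη, .inl he⟩
  · have hw : u ∈ Wt ρ (chX (ψ.mulShift ν) (a • y)) := fun S => by
      rw [hχu, hby, show chX (ψ.mulShift ν) (a • y) S = ψ (ν * ((-(2 : F)⁻¹) * sqf (a • y) S)) from rfl, hval]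
      congr 2
      rw [show b = -(2 : F)⁻¹ * (ν * (a * a)) by rw [← hc]; field_simp]
      ring
    obtain ⟨η, hη, he⟩ := exists_eq_bRep (ψ.mulShift ν) h2 (isPrimitive_mulShift hψ hν) hn ρ
      (rankOne_mulShift hν hR) (smul_ne_zero ha hy) hu hw
    exact ⟨η, hη, .inr he⟩

theorem bRep_one (ψ : AddChar F ℂ) (h2 : (2 : F) ≠ 0) (hψ : ψ.IsPrimitive) (n : ℕ) {η : ℂ}
    (hη : η * η = 1) : (bRep ψ h2 hψ n η).character 1 = ((Fintype.card F : ℂ) ^ n + η) / 2 := by
  rw [Representation.char_one, ← finrank_Vp h2 hη]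
  ring

/-- The gap theorem. -/
theorem small_degrees {n : ℕ} (hn : 2 ≤ n) (h2 : (2 : F) ≠ 0) :
    Nat.card {χ : Cfsg.IrrCharacter ↥(Matrix.symplecticGroup (Fin n) F) //
        (χ : ↥(Matrix.symplecticGroup (Fin n) F) → ℂ) 1 = (((Fintype.card F) ^ n + 1 : ℕ) : ℂ) / 2} = 2 ∧
    Nat.card {χ : Cfsg.IrrCharacter ↥(Matrix.symplecticGroup (Fin n) F) //
        (χ : ↥(Matrix.symplecticGroup (Fin n) F) → ℂ) 1 = (((Fintype.card F) ^ n - 1 : ℕ) : ℂ) / 2} = 2 ∧
    ∀ χ : Cfsg.IrrCharacter ↥(Matrix.symplecticGroup (Fin n) F),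
      (χ : ↥(Matrix.symplecticGroup (Fin n) F) → ℂ) 1 ≠ 1 →
      (χ : ↥(Matrix.symplecticGroup (Fin n) F) → ℂ) 1 ≠ (((Fintype.card F) ^ n + 1 : ℕ) : ℂ) / 2 →
      (χ : ↥(Matrix.symplecticGroup (Fin n) F) → ℂ) 1 ≠ (((Fintype.card F) ^ n - 1 : ℕ) : ℂ) / 2 →
      (((Fintype.card F) ^ n - 1 : ℕ) : ℝ) * (((Fintype.card F) ^ n - Fintype.card F : ℕ) : ℝ) /
          (2 * ((Fintype.card F : ℕ) + 1 : ℝ)) ≤ ‖(χ : ↥(Matrix.symplecticGroup (Fin n) F) → ℂ) 1‖ := by
  classical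
  obtain ⟨ν, hν, hsq, hcl⟩ := exists_class h2
  set ψ := AddChar.FiniteField.primitiveChar_to_Complex F
  have hψ : ψ.IsPrimitive := AddChar.FiniteField.primitiveChar_to_Complex_isPrimitive F
  have hψ' := isPrimitive_mulShift hψ hν
  have hq : 3 ≤ Fintype.card F := by
    have h := FiniteField.odd_card_of_char_ne_two (F := F) fun h => h2 (by
      have := ringChar.Nat.cast_ringChar (R := F); rw [h] at this; exact_mod_cast this)
    have := Fintype.one_lt_card (α := F)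
    omega
  have hQ : Fintype.card F * Fintype.card F ≤ Fintype.card F ^ n := by
    rw [← sq]; exact Nat.pow_le_pow_right Fintype.card_pos hn
  have hpos : 1 ≤ Fintype.card F ^ n := Nat.one_le_pow _ _ Fintype.card_pos
  have hsub : (((Fintype.card F) ^ n - 1 : ℕ) : ℂ) = (Fintype.card F : ℂ) ^ n - 1 := by
    push_cast [Nat.cast_sub hpos]; ring
  have hirr : ∀ (ψ : AddChar F ℂ) (hψ : ψ.IsPrimitive) (η : ℂ), η * η = 1 →
      Cfsg.IsIrrCharacter _ (bRep ψ h2 hψ n η).character := fun ψ hψ η hη =>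
    haveI := isIrreducible_bRep ψ h2 hψ hn hη
    CfsgLib.Char.isIrrCharacter_rep _
  -- the degree decides the sign
  have hclass : ∀ χ : Cfsg.IrrCharacter ↥(Matrix.symplecticGroup (Fin n) F),
      ∃ k : ℕ, (χ : ↥(Matrix.symplecticGroup (Fin n) F) → ℂ) 1 = (k : ℂ) ∧ (k ≠ 1 →
        (Fintype.card F ^ n - 1) * (Fintype.card F ^ n - Fintype.card F) ≤ 2 * (Fintype.card F + 1) * k ∨
        ∃ η : ℂ, η * η = 1 ∧ ((χ : ↥(Matrix.symplecticGroup (Fin n) F) → ℂ) = (bRep ψ h2 hψ n η).character ∨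
          (χ : ↥(Matrix.symplecticGroup (Fin n) F) → ℂ) = (bRep (ψ.mulShift ν) h2 hψ' n η).character)) := by
    intro χ
    obtain ⟨k, ρ, hρ, hc⟩ := χ.2
    have hk : Module.finrank ℂ (Fin k → ℂ) = k := by
      rw [Module.finrank_fintype_fun_eq_card, Fintype.card_fin]
    refine ⟨k, by rw [← hc, Representation.char_one, hk], fun h1 => ?_⟩
    have h := large_or_block hn h2 hψ hν hcl ρ (by rwa [hk])
    rwa [hk, hc] at h
  have hsmall : ∀ k : ℕ, 2 * k ≤ Fintype.card F ^ n + 1 →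
      ¬((Fintype.card F ^ n - 1) * (Fintype.card F ^ n - Fintype.card F) ≤ 2 * (Fintype.card F + 1) * k) := by
    intro k hk hle
    obtain ⟨a, ha⟩ : ∃ a, Fintype.card F ^ n = Fintype.card F + a :=
      ⟨_, (Nat.add_sub_cancel' (le_trans (Nat.le_mul_self _) hQ)).symm⟩
    obtain ⟨q', hq'⟩ : ∃ q', Fintype.card F = q' + 1 := ⟨Fintype.card F - 1, by omega⟩
    rw [ha, hq'] at hk hle
    rw [ha, hq'] at hQ
    rw [hq'] at hq
    rw [show q' + 1 + a - 1 = q' + a by omega, Nat.add_sub_cancel_left] at hle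
    have e1 := Nat.mul_le_mul_left (q' + 1 + 1) hk
    have ha1 : q' * (q' + 1) ≤ a := by nlinarith
    have ha6 : 6 ≤ a := le_trans (Nat.mul_le_mul (show 2 ≤ q' by omega) (show 3 ≤ q' + 1 by omega)) ha1
    have e2 : 6 * a ≤ a * a := Nat.mul_le_mul_right a ha6
    nlinarith
  have hcount : ∀ η : ℂ, η * η = 1 → ∀ d : ℂ, d = ((Fintype.card F : ℂ) ^ n + η) / 2 →
      (∃ k : ℕ, d = (k : ℂ) ∧ k ≠ 1 ∧ 2 * k ≤ Fintype.card F ^ n + 1) →
      Nat.card {χ : Cfsg.IrrCharacter ↥(Matrix.symplecticGroup (Fin n) F) //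
        (χ : ↥(Matrix.symplecticGroup (Fin n) F) → ℂ) 1 = d} = 2 := by
    intro η hη d hd hk
    obtain ⟨k0, hk0, hk1, hk2⟩ := hk
    let c1 : Cfsg.IrrCharacter ↥(Matrix.symplecticGroup (Fin n) F) := ⟨_, hirr ψ hψ η hη⟩
    let c2 : Cfsg.IrrCharacter ↥(Matrix.symplecticGroup (Fin n) F) := ⟨_, hirr _ hψ' η hη⟩
    have hne : c1 ≠ c2 := fun e => character_bRep_ne hn h2 hψ hν hsq hη (congrArg Subtype.val e)
    have hset : {χ : Cfsg.IrrCharacter ↥(Matrix.symplecticGroup (Fin n) F) |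
        (χ : ↥(Matrix.symplecticGroup (Fin n) F) → ℂ) 1 = d} = {c1, c2} := by
      ext χ
      simp only [Set.mem_setOf_eq, Set.mem_insert_iff, Set.mem_singleton_iff]
      constructor
      · intro hχ
        obtain ⟨k, hk, hrest⟩ := hclass χ
        have hkk : k = k0 := by exact_mod_cast hk.symm.trans (hχ.trans hk0)
        subst hkk
        rcases hrest hk1 with h | ⟨η', hη', h⟩
        · exact absurd h (hsmall k hk2)
        have he : η' = η := by
          have h3 : (χ : ↥(Matrix.symplecticGroup (Fin n) F) → ℂ) 1 = ((Fintype.card F : ℂ) ^ n + η') / 2 := by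
            rcases h with h | h <;> rw [h, bRep_one _ h2 _ n hη']
          rw [hχ, hd] at h3
          linear_combination -2 * h3
        subst he
        rcases h with h | h
        · exact .inl (Subtype.ext h)
        · exact .inr (Subtype.ext h)
      · rintro (rfl | rfl)
        · exact (bRep_one _ h2 _ n hη).trans hd.symm
        · exact (bRep_one _ h2 _ n hη).trans hd.symm
    rw [← Set.ncard_pair hne, ← hset]
    exact (Nat.card_coe_set_eq _)
  have hkp : ∃ k : ℕ, (((Fintype.card F) ^ n + 1 : ℕ) : ℂ) / 2 = (k : ℂ) ∧ k ≠ 1 ∧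
      2 * k ≤ Fintype.card F ^ n + 1 := by
    have h := finrank_Vp (n := n) h2 (ε := (1 : ℂ)) (by ring)
    have h' : 2 * Module.finrank ℂ (Vp n F (1 : ℂ)) = Fintype.card F ^ n + 1 := by exact_mod_cast h
    exact ⟨_, by rw [← h']; push_cast; ring, by nlinarith, h'.le⟩
  have hkm : ∃ k : ℕ, (((Fintype.card F) ^ n - 1 : ℕ) : ℂ) / 2 = (k : ℂ) ∧ k ≠ 1 ∧
      2 * k ≤ Fintype.card F ^ n + 1 := by
    have h' := two_mul_finrank (n := n) h2
    exact ⟨_, by rw [show Fintype.card F ^ n - 1 = 2 * Module.finrank ℂ (Vp n F (-1 : ℂ)) by omega]; push_cast; ring,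
      by nlinarith, by omega⟩
  refine ⟨hcount 1 (by ring) _ (by push_cast; ring) hkp, hcount (-1) (by ring) _ (by rw [hsub]; ring) hkm,
    fun χ h1 hp hm => ?_⟩
  obtain ⟨k, hk, hrest⟩ := hclass χ
  rcases hrest (fun e => h1 (by rw [hk, e, Nat.cast_one])) with h | ⟨η, hη, h⟩
  · rw [hk, Complex.norm_natCast, div_le_iff₀ (by positivity)]
    have h' : (((Fintype.card F ^ n - 1) * (Fintype.card F ^ n - Fintype.card F) : ℕ) : ℝ) ≤
        ((2 * (Fintype.card F + 1) * k : ℕ) : ℝ) := Nat.cast_le.2 h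
    rw [Nat.cast_mul] at h'
    push_cast at h' ⊢
    linarith
  · have h3 : (χ : ↥(Matrix.symplecticGroup (Fin n) F) → ℂ) 1 = ((Fintype.card F : ℂ) ^ n + η) / 2 := by
      rcases h with h | h <;> rw [h, bRep_one _ h2 _ n hη]
    rcases mul_self_eq_one_iff.1 hη with rfl | rfl
    · exact absurd (by rw [h3]; push_cast; ring) hp
    · exact absurd (by rw [h3, hsub]; ring) hm

end CfsgLib.PLocal.WeilGap
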