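import Cfsg.Agent.Lib.PLocal.Weil.Degree

/-!
# Generators of the symplectic group adapted to the Siegel parabolic
-/

set_option autoImplicit false

namespace CfsgLib.PLocal.WeilGap

open Matrix CfsgLib.PLocal.Weil

variable {F : Type*} [Field F] {n : ℕ}

/-- The matrix unit on the diagonal. -/
def sqE (i : Fin n) : SymM F n := ⟨single i i 1, transpose_single _ _ _⟩

/-- The symmetrised matrix unit. -/
def sE (i k : Fin n) : SymM F n :=
  ⟨single i k 1 + single k i 1, by rw [mem_SymM, transpose_add, transpose_single, transpose_single, add_comm]⟩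

/-- The row of index `i` vanishes. -/
def RowZero (i : Fin n) (S : SymM F n) : Prop := ∀ l, S.1 i l = 0

theorem rowZero_sqE {i k : Fin n} (h : i ≠ k) : RowZero i (sqE k : SymM F n) :=
  fun l => by simp [sqE, single_apply, h.symm]

theorem RowZero.smul {i : Fin n} {S : SymM F n} (hS : RowZero i S) (a : F) : RowZero i (a • S) :=
  fun l => by simp [hS l]

theorem RowZero.add {i : Fin n} {S T : SymM F n} (hS : RowZero i S) (hT : RowZero i T) :
    RowZero i (S + T) :=
  fun l => by simp [hS l, hT l]

theorem RowZero.mul_single {i : Fin n} {S : SymM F n} (hS : RowZero i S) (j : Fin n) (a : F) :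
    S.1 * single i j a = 0 := by
  ext x y
  rcases eq_or_ne y j with rfl | h
  · rw [mul_single_apply_same]
    have hx : S.1 x i = S.1 i x := congrFun (congrFun (mem_SymM.1 S.2) i) x
    simp [hx, hS x]
  · simp [mul_single_apply_of_ne, h]

theorem RowZero.single_mul {i : Fin n} {S : SymM F n} (hS : RowZero i S) (j : Fin n) (a : F) :
    single j i a * S.1 = 0 := by
  ext x y
  rcases eq_or_ne x j with rfl | h
  · rw [single_mul_apply_same, hS y]; simp
  · simp [single_mul_apply_of_ne, h]

/-- The upper unipotent element of a multiple of a diagonal matrix unit. -/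
def upE (i : Fin n) (t : F) : Matrix.symplecticGroup (Fin n) F :=
  ⟨fromBlocks 1 (single i i t) 0 1, by
    rw [SymplecticGroup.mem_iff', Matrix.J]
    simp [fromBlocks_transpose, fromBlocks_multiply]⟩

theorem upE_add (i : Fin n) (s t : F) : upE i (s + t) = upE i s * upE i t :=
  Subtype.ext (by simp [upE, fromBlocks_multiply, single_add, add_comm])

theorem upE_zero (i : Fin n) : upE i (0 : F) = 1 :=
  Subtype.ext (by simp [upE, fromBlocks_one])

theorem upE_neg_mul (i : Fin n) (t : F) : upE i (-t) * upE i t = 1 := by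
  rw [← upE_add, neg_add_cancel, upE_zero]

theorem upE_comm_low {i : Fin n} (t : F) {S : SymM F n} (hS : RowZero i S) :
    upE i t * low S = low S * upE i t :=
  Subtype.ext (by simp [upE, low, fromBlocks_multiply, hS.mul_single, hS.single_mul])

theorem lev_mul (A B : (Matrix (Fin n) (Fin n) F)ˣ) : lev (A * B) = lev A * lev B :=
  Subtype.ext (by simp [lev, fromBlocks_multiply, transpose_mul])

theorem lev_one : lev (1 : (Matrix (Fin n) (Fin n) F)ˣ) = 1 :=
  Subtype.ext (by simp [lev, fromBlocks_one])

theorem lev_mul_inv (A : (Matrix (Fin n) (Fin n) F)ˣ) : lev A * lev A⁻¹ = 1 := by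
  rw [← lev_mul, mul_inv_cancel, lev_one]

theorem lev_inv_mul (A : (Matrix (Fin n) (Fin n) F)ˣ) : lev A⁻¹ * lev A = 1 := by
  rw [← lev_mul, inv_mul_cancel, lev_one]

theorem single_eq (i j : Fin n) (t : F) :
    single i j t = t • vecMulVec (Pi.single i 1) (Pi.single j 1) := by
  ext x y
  simp [single_apply, vecMulVec_apply, Pi.single_apply]
  grind

/-- A Levi element fixing a coordinate vector commutes with its upper unipotent. -/
theorem upE_comm_lev (i : Fin n) (t : F) (A : (Matrix (Fin n) (Fin n) F)ˣ)
    (hA : (A : Matrix (Fin n) (Fin n) F) *ᵥ Pi.single i 1 = Pi.single i 1) :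
    upE i t * lev A = lev A * upE i t := by
  apply Subtype.ext
  have h : (A : Matrix (Fin n) (Fin n) F) * single i i t * (A : Matrix (Fin n) (Fin n) F)ᵀ = single i i t := by
    rw [single_eq, Matrix.mul_smul, Matrix.smul_mul, mul_vecMulVec, hA, vecMulVec_mul, vecMul_transpose, hA]
  simp only [upE, lev, Submonoid.coe_mul, fromBlocks_multiply, Matrix.one_mul, Matrix.mul_one, Matrix.mul_zero,
    Matrix.zero_mul, add_zero, zero_add]
  congr 1
  conv_lhs => rw [← h, Matrix.mul_assoc, ← transpose_mul, Units.inv_mul, transpose_one, Matrix.mul_one]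

/-- A shear. -/
def shU (i k : Fin n) (hik : i ≠ k) (r : F) : (Matrix (Fin n) (Fin n) F)ˣ :=
  ⟨transvection i k r, transvection i k (-r),
    by rw [transvection_mul_transvection_same i k hik, add_neg_cancel, transvection_zero],
    by rw [transvection_mul_transvection_same i k hik, neg_add_cancel, transvection_zero]⟩

theorem shU_add (i k : Fin n) (hik : i ≠ k) (r s : F) :
    shU i k hik (r + s) = shU i k hik r * shU i k hik s :=
  Units.ext (transvection_mul_transvection_same i k hik r s).symm

theorem shU_zero (i k : Fin n) (hik : i ≠ k) : shU i k hik (0 : F) = 1 :=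
  Units.ext (transvection_zero _ _)

theorem shU_mulVec (i k : Fin n) (hik : i ≠ k) (r : F) (x : Fin n → F) :
    (shU i k hik r : Matrix (Fin n) (Fin n) F) *ᵥ x = x + Pi.single i (r * x k) := by
  show (1 + single i k r) *ᵥ x = _
  rw [add_mulVec, one_mulVec, single_mulVec]
  congr 1

/-- A diagonal element moving one coordinate. -/
def scU (i : Fin n) (a : Fˣ) : (Matrix (Fin n) (Fin n) F)ˣ :=
  ⟨1 + single i i ((a : F) - 1), 1 + single i i (((a⁻¹ : Fˣ) : F) - 1),
    by
      simp only [Matrix.add_mul, Matrix.mul_add, Matrix.one_mul, Matrix.mul_one, single_mul_single_same]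
      rw [add_assoc, ← single_add, ← single_add]
      have := Units.mul_inv a
      rw [show (a : F) - 1 + ((((a⁻¹ : Fˣ) : F) - 1) + ((a : F) - 1) * (((a⁻¹ : Fˣ) : F) - 1)) = 0 by
        linear_combination this, single_zero, add_zero],
    by
      simp only [Matrix.add_mul, Matrix.mul_add, Matrix.one_mul, Matrix.mul_one, single_mul_single_same]
      rw [add_assoc, ← single_add, ← single_add]
      have := Units.inv_mul a
      rw [show ((a⁻¹ : Fˣ) : F) - 1 + (((a : F) - 1) + (((a⁻¹ : Fˣ) : F) - 1) * ((a : F) - 1)) = 0 by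
        linear_combination this, single_zero, add_zero]⟩

theorem scU_mulVec (i : Fin n) (a : Fˣ) (x : Fin n → F) :
    (scU i a : Matrix (Fin n) (Fin n) F) *ᵥ x = x + Pi.single i (((a : F) - 1) * x i) := by
  show (1 + single i i ((a : F) - 1)) *ᵥ x = _
  rw [add_mulVec, one_mulVec, single_mulVec]
  congr 1

/-- The torus element is a word in the two root subgroups. -/
theorem lev_scU (i : Fin n) (a : Fˣ) :
    lev (scU i a) = upE i (a : F) * low ((-((a⁻¹ : Fˣ) : F)) • sqE i) * upE i (a : F) *
      (upE i (-1) * low (sqE i) * upE i (-1)) := by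
  apply Subtype.ext
  have e : ((a : F)) * ((a⁻¹ : Fˣ) : F) = 1 := Units.mul_inv a
  simp only [lev, scU, upE, low, sqE, Submonoid.coe_mul, SetLike.val_smul, fromBlocks_multiply, smul_single,
    smul_eq_mul, mul_one, Units.inv_mk, transpose_add, transpose_one, transpose_single, Matrix.add_mul,
    Matrix.mul_add, Matrix.one_mul, Matrix.mul_one, Matrix.mul_zero, Matrix.zero_mul, add_zero, zero_add,
    single_mul_single_same]
  congr 1 <;> (ext x y; simp only [Matrix.add_apply, single_apply, Matrix.one_apply, Matrix.zero_apply]) <;>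
    split_ifs <;> grind

/-- The Weyl element conjugates the lower root subgroup to the upper one. -/
theorem upE_weyl (i : Fin n) (t : F) :
    upE i t * (low (sqE i) * upE i (-1) * low (sqE i)) =
      low (sqE i) * upE i (-1) * low (sqE i) * low ((-t) • sqE i) := by
  apply Subtype.ext
  simp only [upE, low, sqE, Submonoid.coe_mul, SetLike.val_smul, fromBlocks_multiply, smul_single,
    smul_eq_mul, mul_one, Matrix.add_mul, Matrix.mul_add, Matrix.one_mul, Matrix.mul_one, Matrix.mul_zero,
    Matrix.zero_mul, add_zero, zero_add, single_mul_single_same]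
  congr 1 <;> (ext x y; simp only [Matrix.add_apply, single_apply, Matrix.one_apply, Matrix.zero_apply]) <;>
    split_ifs <;> grind

/-- The upper root subgroup moves the mixed lower subgroup into shears. -/
theorem upE_conj_sE {i k : Fin n} (hik : i ≠ k) (t r : F) :
    upE i (-t) * low (r • sE i k) * upE i t =
      lev (shU i k hik (-(t * r))) * low (r • sE i k + (-(t * r ^ 2)) • sqE k) := by
  apply Subtype.ext
  simp only [upE, low, lev, shU, sE, sqE, transvection, Submonoid.coe_mul, Submodule.coe_add, SetLike.val_smul,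
    fromBlocks_multiply, smul_single, smul_eq_mul, mul_one, Units.inv_mk, transpose_add, transpose_one,
    transpose_single, smul_add, Matrix.add_mul, Matrix.mul_add, Matrix.one_mul, Matrix.mul_one, Matrix.mul_zero,
    Matrix.zero_mul, add_zero, zero_add, single_mul_single_same, single_mul_single_of_ne, hik, hik.symm,
    ne_eq, not_false_eq_true]
  congr 1 <;> (ext x y; simp only [Matrix.add_apply, single_apply, Matrix.one_apply, Matrix.zero_apply]) <;>
    split_ifs <;> grind

/-- The lower root subgroup moves shears into the mixed lower subgroup. -/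
theorem low_conj_sh {i k : Fin n} (hik : i ≠ k) (t r : F) :
    low ((-t) • sqE i) * lev (shU i k hik r) * low (t • sqE i) =
      lev (shU i k hik r) * low ((-(t * r)) • sE i k + (-(t * r ^ 2)) • sqE k) := by
  apply Subtype.ext
  simp only [low, lev, shU, sE, sqE, transvection, Submonoid.coe_mul, Submodule.coe_add, SetLike.val_smul,
    fromBlocks_multiply, smul_single, smul_eq_mul, mul_one, Units.inv_mk, transpose_add, transpose_one,
    transpose_single, smul_add, Matrix.add_mul, Matrix.mul_add, Matrix.one_mul, Matrix.mul_one, Matrix.mul_zero,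
    Matrix.zero_mul, add_zero, zero_add, single_mul_single_same, single_mul_single_of_ne, hik, hik.symm,
    ne_eq, not_false_eq_true]
  congr 1 <;> (ext x y; simp only [Matrix.add_apply, single_apply, Matrix.one_apply, Matrix.zero_apply]) <;>
    split_ifs <;> grind

/-- Invertible matrices are generated by shears and diagonal elements. -/
theorem units_induction (P : (Matrix (Fin n) (Fin n) F)ˣ → Prop) (h1 : P 1)
    (hmul : ∀ A B, P A → P B → P (A * B)) (hsh : ∀ i k (hik : i ≠ k) (r : F), P (shU i k hik r))
    (hsc : ∀ i (a : Fˣ), P (scU i a)) (A : (Matrix (Fin n) (Fin n) F)ˣ) : P A := by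
  classical
  suffices h : ∃ B : (Matrix (Fin n) (Fin n) F)ˣ, P B ∧
      (B : Matrix (Fin n) (Fin n) F) = (A : Matrix (Fin n) (Fin n) F) by
    obtain ⟨B, hB, e⟩ := h
    rwa [Units.ext e] at hB
  refine diagonal_transvection_induction_of_det_ne_zero
    (fun M => ∃ B : (Matrix (Fin n) (Fin n) F)ˣ, P B ∧ (B : Matrix (Fin n) (Fin n) F) = M) _ ?_ ?_ ?_ ?_
  · exact ((Matrix.isUnit_iff_isUnit_det _).1 A.isUnit).ne_zero
  · intro D hD
    rw [det_diagonal, Finset.prod_ne_zero_iff] at hD
    suffices ∀ s : Finset (Fin n), ∃ B : (Matrix (Fin n) (Fin n) F)ˣ, P B ∧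
        (B : Matrix (Fin n) (Fin n) F) = diagonal (fun j => if j ∈ s then D j else 1) by
      obtain ⟨B, hB, e⟩ := this Finset.univ
      exact ⟨B, hB, by simpa using e⟩
    intro s
    induction s using Finset.induction_on with
    | empty => exact ⟨1, h1, by simp [diagonal_one]⟩
    | insert a s ha ih =>
      obtain ⟨B, hB, e⟩ := ih
      refine ⟨scU a (Units.mk0 _ (hD a (Finset.mem_univ _))) * B, hmul _ _ (hsc _ _) hB, ?_⟩
      rw [Units.val_mul, e]
      show (1 + single a a (D a - 1)) * _ = _
      ext x y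
      rw [Matrix.mul_diagonal, Matrix.add_apply, single_apply, Matrix.one_apply, diagonal_apply]
      simp only [Finset.mem_insert]
      grind
  · rintro ⟨i, j, hij, c⟩
    exact ⟨shU i j hij c, hsh i j hij c, rfl⟩
  · rintro _ _ _ _ ⟨A, hA, rfl⟩ ⟨B, hB, rfl⟩
    exact ⟨A * B, hmul A B hA hB, rfl⟩

/-- The block embedding. -/
def embM {m : ℕ} (A : Matrix (Fin m) (Fin m) F) : Matrix (Fin (m + 1)) (Fin (m + 1)) F :=
  Matrix.of (Fin.cons (Fin.cons 1 0) fun i => Fin.cons 0 (A i))

/-- The block embedding as a homomorphism. -/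
def embHom (m : ℕ) : Matrix (Fin m) (Fin m) F →* Matrix (Fin (m + 1)) (Fin (m + 1)) F where
  toFun := embM
  map_one' := by
    ext x y
    refine Fin.cases ?_ (fun x' => ?_) x <;> refine Fin.cases ?_ (fun y' => ?_) y <;>
      simp [embM, Matrix.one_apply, Fin.succ_ne_zero, (Fin.succ_ne_zero _).symm]
  map_mul' A B := by
    ext x y
    refine Fin.cases ?_ (fun x' => ?_) x <;> refine Fin.cases ?_ (fun y' => ?_) y <;>
      simp [embM, Matrix.mul_apply, Fin.sum_univ_succ]

/-- The stabiliser of the first coordinate vector is generated by shears and diagonal elements. -/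
theorem stab_induction {m : ℕ} (P : (Matrix (Fin (m + 1)) (Fin (m + 1)) F)ˣ → Prop) (h1 : P 1)
    (hmul : ∀ A B, P A → P B → P (A * B))
    (hsh : ∀ i k (hik : i ≠ k) (r : F), k ≠ 0 → P (shU i k hik r))
    (hsc : ∀ i (a : Fˣ), i ≠ 0 → P (scU i a)) (A : (Matrix (Fin (m + 1)) (Fin (m + 1)) F)ˣ)
    (hA : (A : Matrix (Fin (m + 1)) (Fin (m + 1)) F) *ᵥ Pi.single 0 1 = Pi.single 0 1) : P A := by
  classical
  -- the block part
  have hblk : ∀ B : (Matrix (Fin m) (Fin m) F)ˣ, P (Units.map (embHom m) B) := by
    refine units_induction _ (by rw [map_one]; exact h1) (fun B C hB hC => by rw [map_mul]; exact hmul _ _ hB hC)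
      (fun i k hik r => ?_) (fun i a => ?_)
    · convert hsh i.succ k.succ (fun h => hik (Fin.succ_injective _ h)) r (Fin.succ_ne_zero _) using 1
      refine Units.ext ?_
      ext x y
      refine Fin.cases ?_ (fun x' => ?_) x <;> refine Fin.cases ?_ (fun y' => ?_) y <;>
        simp [embHom, embM, shU, transvection, single_apply, Matrix.one_apply, Fin.succ_ne_zero,
          (Fin.succ_ne_zero _).symm]
    · convert hsc i.succ a (Fin.succ_ne_zero _) using 1
      refine Units.ext ?_
      ext x y
      refine Fin.cases ?_ (fun x' => ?_) x <;> refine Fin.cases ?_ (fun y' => ?_) y <;>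
        simp [embHom, embM, scU, single_apply, Matrix.one_apply, Fin.succ_ne_zero,
          (Fin.succ_ne_zero _).symm]
  -- the unipotent part
  have huni : ∀ (s : Finset (Fin m)) (a : Fin m → F), ∃ T : (Matrix (Fin (m + 1)) (Fin (m + 1)) F)ˣ, P T ∧
      (T : Matrix (Fin (m + 1)) (Fin (m + 1)) F) = 1 + ∑ j ∈ s, single 0 j.succ (a j) := by
    intro s a
    induction s using Finset.induction_on with
    | empty => exact ⟨1, h1, by simp⟩
    | insert j s hj ih =>
      obtain ⟨T, hT, e⟩ := ih
      refine ⟨shU 0 j.succ (Fin.succ_ne_zero j).symm (a j) * T, hmul _ _ (hsh _ _ _ _ (Fin.succ_ne_zero _)) hT, ?_⟩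
      rw [Units.val_mul, e, Finset.sum_insert hj]
      show (1 + single 0 j.succ (a j)) * _ = _
      have hz : ∀ l : Fin m, single (0 : Fin (m + 1)) j.succ (a j) * single 0 l.succ (a l) = 0 := fun l =>
        single_mul_single_of_ne (h := Fin.succ_ne_zero j) ..
      rw [Matrix.add_mul, Matrix.one_mul, Matrix.mul_add, Matrix.mul_one, Finset.mul_sum,
        Finset.sum_eq_zero fun l _ => hz l, add_zero]
      abel
  have hcol : ∀ x, (A : Matrix (Fin (m + 1)) (Fin (m + 1)) F) x 0 = if x = 0 then 1 else 0 := fun x => by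
    simpa [mulVec_single, Pi.single_apply] using congrFun hA x
  set A' : Matrix (Fin m) (Fin m) F := fun x y => (A : Matrix (Fin (m + 1)) (Fin (m + 1)) F) x.succ y.succ with hA'
  set a : Fin m → F := fun y => (A : Matrix (Fin (m + 1)) (Fin (m + 1)) F) 0 y.succ with ha
  obtain ⟨T, hT, hTe⟩ := huni Finset.univ a
  have hfac : (A : Matrix (Fin (m + 1)) (Fin (m + 1)) F) = embM A' * (T : Matrix (Fin (m + 1)) (Fin (m + 1)) F) := by
    ext x y
    rw [hTe, Matrix.mul_add, Matrix.mul_one, Finset.mul_sum, Matrix.add_apply, Matrix.sum_apply]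
    refine Fin.cases ?_ (fun x' => ?_) x <;> refine Fin.cases ?_ (fun y' => ?_) y <;>
      simp [embM, hcol, hA', ha, Matrix.mul_apply, single_apply, Fin.sum_univ_succ, Fin.succ_ne_zero,
        (Fin.succ_ne_zero _).symm]
  have hu : IsUnit A' := by
    rw [Matrix.isUnit_iff_isUnit_det]
    have h := ((Matrix.isUnit_iff_isUnit_det _).1 A.isUnit)
    rw [hfac, det_mul, IsUnit.mul_iff] at h
    have h' := h.1
    rw [det_succ_row_zero, Fin.sum_univ_succ] at h'
    simp [embM, Matrix.submatrix] at h'
    exact isUnit_iff_ne_zero.2 h'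
  obtain ⟨B, hB⟩ := hu
  have : A = Units.map (embHom m) B * T := Units.ext (by rw [hfac, ← hB]; rfl)
  rw [this]
  exact hmul _ _ (hblk B) hT

/-- The transvection at a transported vector. -/
theorem sympTransvection_conj (g : Matrix.symplecticGroup (Fin n) F) (v : Fin n ⊕ Fin n → F) (c : F) :
    Cfsg.sympTransvection n (g.1 *ᵥ v) c * g.1 = g.1 * Cfsg.sympTransvection n v c := by
  simp only [Cfsg.sympTransvection, Matrix.add_mul, Matrix.mul_add, Matrix.one_mul, Matrix.mul_one,
    Matrix.smul_mul, Matrix.mul_smul, vecMulVec_mul, mul_vecMulVec]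
  congr 3
  rw [← mulVec_transpose, mulVec_mulVec, mulVec_mulVec, SymplecticGroup.mem_iff'.1 g.2]

/-- A subgroup containing the lower unipotents and one upper root subgroup and normalised by the
Levi subgroup is everything. -/
theorem eq_top_of_gens (i : Fin n) (H : Subgroup (Matrix.symplecticGroup (Fin n) F))
    (hlow : ∀ S, low S ∈ H) (hup : ∀ t, upE i t ∈ H)
    (hlev : ∀ A, ∀ h ∈ H, lev A * h * (lev A)⁻¹ ∈ H) : H = ⊤ := by
  classical
  rw [eq_top_iff, ← Classical.Symp.closure_sympTransvection_eq_top, Subgroup.closure_le]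
  rintro T ⟨v, c, hT⟩
  by_cases hx : (fun j => v (Sum.inl j)) = 0
  · -- a transvection in the lower unipotent subgroup
    let S : SymM F n := ⟨(-c) • vecMulVec (fun j => v (Sum.inr j)) (fun j => v (Sum.inr j)),
      by rw [mem_SymM, transpose_smul, transpose_vecMulVec]⟩
    have : T = low S := by
      apply Subtype.ext
      rw [hT]
      ext (x | x) (y | y) <;>
        simp [Cfsg.sympTransvection, low, S, Matrix.J, mulVec, dotProduct, Fintype.sum_sum_type,
          vecMulVec_apply, Matrix.one_apply,
          show ∀ j, v (Sum.inl j) = 0 from fun j => congrFun hx j]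
    rw [this]; exact hlow S
  · set x : Fin n → F := fun j => v (Sum.inl j) with hxdef
    set y : Fin n → F := fun j => v (Sum.inr j) with hydef
    obtain ⟨A, hA⟩ := exists_unit_mulVec (F := F) (n := n) (v := Pi.single i 1) (w := x)
      (by simp) hx
    obtain ⟨j, hj⟩ := Function.ne_iff.1 hx
    set m : Fin n → F := Pi.single j (x j)⁻¹ with hmdef
    have hmx : m ⬝ᵥ x = 1 := by simp [hmdef, inv_mul_cancel₀ (show x j ≠ 0 from hj)]
    let S : SymM F n := ⟨vecMulVec y m + vecMulVec m y - (y ⬝ᵥ x) • vecMulVec m m, by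
      rw [mem_SymM, transpose_sub, transpose_add, transpose_smul, transpose_vecMulVec, transpose_vecMulVec,
        transpose_vecMulVec, add_comm]⟩
    have hS : S.1 *ᵥ x = y := by
      simp only [S, sub_mulVec, add_mulVec, smul_mulVec, vecMulVec_mulVec, op_smul_eq_smul, hmx, one_smul]
      abel
    set g := low S * lev A with hg
    have hgv : g.1 *ᵥ Sum.elim (Pi.single i 1) 0 = v := by
      rw [hg, Submonoid.coe_mul, ← mulVec_mulVec]
      have e1 : (lev A).1 *ᵥ Sum.elim (Pi.single i 1) 0 = Sum.elim x 0 := by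
        simp only [lev, fromBlocks_mulVec, Sum.elim_comp_inl, Sum.elim_comp_inr, mulVec_zero, zero_mulVec,
          add_zero, hA]
      rw [e1]
      simp only [low, fromBlocks_mulVec, Sum.elim_comp_inl, Sum.elim_comp_inr, one_mulVec, zero_mulVec,
        mulVec_zero, add_zero, hS]
      funext j; rcases j with j | j <;> rfl
    have he : (upE i c).1 = Cfsg.sympTransvection n (Sum.elim (Pi.single i 1) 0) c := by
      ext (x | x) (y | y) <;>
        simp [Cfsg.sympTransvection, upE, Matrix.J, mulVec, dotProduct, Fintype.sum_sum_type, vecMulVec_apply,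
          Matrix.one_apply, single_apply, Pi.single_apply] <;> grind
    have : T = low S * (lev A * upE i c * (lev A)⁻¹) * (low S)⁻¹ := by
      have h1 : T * g = g * upE i c := Subtype.ext (by
        rw [Submonoid.coe_mul, Submonoid.coe_mul _ g, he, hT, ← hgv, sympTransvection_conj])
      have h2 : T = g * upE i c * g⁻¹ := eq_mul_inv_of_mul_eq h1
      rw [h2, hg]; group
    rw [this]
    exact H.mul_mem (H.mul_mem (hlow S) (hlev A _ (hup c))) (H.inv_mem (hlow S))

end CfsgLib.PLocal.WeilGap
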