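import Cfsg.Agent.Lib.PLocal.WeilGap.Block

/-!
# The invariant span of an equivariant family of weight vectors
-/

set_option autoImplicit false

namespace CfsgLib.PLocal.WeilGap

open Matrix CfsgLib.PLocal.Weil

variable {F : Type*} [Field F] [Fintype F] {n : ℕ}

noncomputable local instance instFintypeSymMGlue : Fintype (SymM F n) := Fintype.ofFinite _

section Basic

variable {V W : Type*} [AddCommGroup V] [Module ℂ V] [AddCommGroup W] [Module ℂ W]
variable {ρ : Representation ℂ (Matrix.symplecticGroup (Fin n) F) V}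
variable {σ : Representation ℂ (Matrix.symplecticGroup (Fin n) F) W}

theorem prj_map (f : V →ₗ[ℂ] W) (hf : ∀ g v, f (ρ g v) = σ g (f v)) (χ : AddChar (SymM F n) ℂ) (u : V) :
    f (prj ρ χ u) = prj σ χ (f u) := by
  simp only [prj, LinearMap.smul_apply, LinearMap.sum_apply, map_smul, map_sum, tOp, hf]

theorem prj_mem_of_invariant (P : Submodule ℂ V) (hP : ∀ g, ∀ v ∈ P, ρ g v ∈ P)
    (χ : AddChar (SymM F n) ℂ) {v : V} (hv : v ∈ P) : prj ρ χ v ∈ P := by
  simp only [prj, LinearMap.smul_apply, LinearMap.sum_apply]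
  exact P.smul_mem _ (P.sum_mem fun S _ => P.smul_mem _ (hP _ v hv))

/-- The elements preserving a subspace form a subgroup. -/
def stabSub (ρ : Representation ℂ (Matrix.symplecticGroup (Fin n) F) V) (P : Submodule ℂ V) :
    Subgroup (Matrix.symplecticGroup (Fin n) F) :=
  { carrier := {g | ∀ v ∈ P, ρ g v ∈ P}
    one_mem' := fun v hv => by simpa using hv
    mul_mem' := fun {a b} ha hb v hv => by
      rw [map_mul, Module.End.mul_apply]; exact ha _ (hb v hv)
    inv_mem' := fun {a} ha v hv => by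
      have hk : ∀ k : ℕ, ∀ w ∈ P, ρ (a ^ k) w ∈ P := by
        intro k
        induction k with
        | zero => intro w hw; simpa using hw
        | succ k ih => intro w hw; rw [pow_succ, map_mul, Module.End.mul_apply]; exact ih _ (ha w hw)
      have : a⁻¹ = a ^ (orderOf a - 1) := by
        apply inv_eq_of_mul_eq_one_right
        rw [← pow_succ', Nat.sub_add_cancel (orderOf_pos a), pow_orderOf_eq_one]
      rw [this]; exact hk _ v hv }

/-- An invariant subspace without nonzero weights is fixed pointwise. -/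
theorem fixed_of_low_trivial (hn : 2 ≤ n) (P : Submodule ℂ V) (hP : ∀ g, ∀ v ∈ P, ρ g v ∈ P)
    (hlow : ∀ S, ∀ v ∈ P, ρ (low S) v = v) : ∀ g, ∀ v ∈ P, ρ g v = v := by
  let H : Subgroup (Matrix.symplecticGroup (Fin n) F) :=
    { carrier := {g | ∀ v ∈ P, ρ g v = v}
      one_mem' := fun v _ => by simp
      mul_mem' := fun {a b} ha hb v hv => by
        rw [map_mul, Module.End.mul_apply, hb v hv, ha v hv]
      inv_mem' := fun {a} ha v hv => by
        conv_lhs => rw [← ha v hv, ← Module.End.mul_apply, ← map_mul, inv_mul_cancel, map_one, Module.End.one_apply] }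
  have hconj : ∀ g, ∀ h ∈ H, g * h * g⁻¹ ∈ H := fun g h hh v hv => by
    rw [map_mul, map_mul, Module.End.mul_apply, Module.End.mul_apply, hh _ (hP _ v hv), ← Module.End.mul_apply,
      ← map_mul, mul_inv_cancel, map_one, Module.End.one_apply]
  let i : Fin n := ⟨0, by omega⟩
  have htop : H = ⊤ := eq_top_of_gens i H hlow (fun t => by
    have : upE i t = (low (sqE i) * upE i (-1) * low (sqE i)) * low ((-t) • sqE i) *
        (low (sqE i) * upE i (-1) * low (sqE i))⁻¹ := by
      rw [← upE_weyl, mul_inv_cancel_right]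
    rw [this]; exact hconj _ _ (hlow _)) fun A => hconj _
  intro g
  exact (show g ∈ H from htop ▸ Subgroup.mem_top g)

end Basic

variable [DecidableEq F] (ψ : AddChar F ℂ) (h2 : (2 : F) ≠ 0) (hψ : ψ.IsPrimitive)
variable {R : Type*} [AddCommGroup R] [Module ℂ R]

/-- A family of weight vectors equivariant under the Levi subgroup as in the Weil representation. -/
structure Fam (σ : Representation ℂ (Matrix.symplecticGroup (Fin n) F) R) (d : (Fin n → F) → R) : Prop where
  wt : ∀ x, x ≠ 0 → d x ∈ Wt σ (chX ψ x)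
  equiv : ∀ A x, x ≠ 0 → σ (lev A) (d x) = cL ψ h2 hψ A • d ((A : Matrix (Fin n) (Fin n) F) *ᵥ x)

variable {ψ h2 hψ} {σ : Representation ℂ (Matrix.symplecticGroup (Fin n) F) R} {d : (Fin n → F) → R}

/-- On a line avoiding the origin the upper root subgroup acts by the Weil kernel. -/
theorem Fam.up (hn : 2 ≤ n) (hR : RankOne ψ σ) (hd : Fam ψ h2 hψ σ d) {i k : Fin n} (hik : i ≠ k)
    {x : Fin n → F} (hxi : x i = 0) (hxk : x k ≠ 0) (t s : F) :
    σ (upE i t) (d (x + Pi.single i s)) =
      ∑ s', (weil ψ h2 hψ (upE i t)).1 (x + Pi.single i s') (x + Pi.single i s) • d (x + Pi.single i s') := by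
  have hne : ∀ s, x + Pi.single i s ≠ 0 := fun s e => hxk (by simpa [hik.symm] using congrFun e k)
  let d' : F → R := fun s => d (x + Pi.single i s)
  have h1 : ∀ s, d' s ∈ Wt σ (chX ψ (x + Pi.single i s)) := fun s => hd.wt _ (hne s)
  have h3 : ∀ r s, σ (lev (shU i k hik r)) (d' s) = cL ψ h2 hψ (shU i k hik r) • d' (s + r * x k) := fun r s => by
    show σ (lev (shU i k hik r)) (d (x + Pi.single i s)) = _
    rw [hd.equiv _ _ (hne s), shU_block]
  exact block_up ψ h2 hψ σ hn hR i k hik x hxi hxk d' h1 h3 t s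

/-- The span of the family. -/
def famSpan (d : (Fin n → F) → R) : Submodule ℂ R := Submodule.span ℂ (d '' {x | x ≠ 0})

theorem mem_famSpan {x : Fin n → F} (hx : x ≠ 0) (d : (Fin n → F) → R) : d x ∈ famSpan d :=
  Submodule.subset_span ⟨x, hx, rfl⟩

theorem Fam.up_good (hn : 2 ≤ n) (hR : RankOne ψ σ) (hd : Fam ψ h2 hψ σ d) {i k : Fin n} (hik : i ≠ k)
    {y : Fin n → F} (hyk : y k ≠ 0) (t : F) : σ (upE i t) (d y) ∈ famSpan d := by
  have hxk : (y - Pi.single i (y i) : Fin n → F) k ≠ 0 := by simpa [hik.symm] using hyk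
  have h := hd.up hn hR hik (x := y - Pi.single i (y i)) (by simp) hxk t (y i)
  rw [sub_add_cancel] at h
  rw [h]
  exact Submodule.sum_mem _ fun s _ => Submodule.smul_mem _ _
    (mem_famSpan (fun e => hxk (by simpa [hik.symm] using congrFun e k)) d)

/-- The fixed parts of the transforms of the coordinate vectors. -/
noncomputable def fixPart (σ : Representation ℂ (Matrix.symplecticGroup (Fin n) F) R) (d : (Fin n → F) → R)
    (j : Fin n) : Submodule ℂ R :=
  Submodule.span ℂ {v | ∃ (t r : F), r ≠ 0 ∧ v = prj σ 0 (σ (upE j t) (d (Pi.single j r)))}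

theorem Fam.prj_zero_famSpan (h2' : (2 : F) ≠ 0) (hψ' : ψ.IsPrimitive) (hd : Fam ψ h2 hψ σ d) {v : R}
    (hv : v ∈ famSpan d) : prj σ 0 v = 0 := by
  classical
  induction hv using Submodule.span_induction with
  | mem v hv =>
    obtain ⟨x, hx, rfl⟩ := hv
    rw [prj_apply σ 0 _ (hd.wt x hx), if_neg (Ne.symm (chX_ne_zero h2' hψ' hx))]
  | zero => simp
  | add a b _ _ ha hb => rw [map_add, ha, hb, add_zero]
  | smul c a _ ha => rw [map_smul, ha, smul_zero]

theorem Fam.prj_famSpan (hd : Fam ψ h2 hψ σ d) (χ : AddChar (SymM F n) ℂ) {v : R}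
    (hv : v ∈ famSpan d) : prj σ χ v ∈ famSpan d := by
  classical
  induction hv using Submodule.span_induction with
  | mem v hv =>
    obtain ⟨x, hx, rfl⟩ := hv
    rw [prj_apply σ χ _ (hd.wt x hx)]
    split_ifs
    · exact mem_famSpan hx d
    · exact zero_mem _
  | zero => simp
  | add a b _ _ ha hb => rw [map_add]; exact add_mem ha hb
  | smul c a _ ha => rw [map_smul]; exact Submodule.smul_mem _ _ ha

theorem fixPart_le_Wt (j : Fin n) : fixPart σ d j ≤ Wt σ 0 := by
  refine Submodule.span_le.2 ?_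
  rintro v ⟨t, r, -, rfl⟩
  exact prj_mem σ 0 _

theorem prj_zero_fixPart (j : Fin n) {v : R} (hv : v ∈ fixPart σ d j) : prj σ 0 v = v := by
  classical
  rw [prj_apply σ 0 0 (fixPart_le_Wt j hv), if_pos rfl]

theorem chX_single (ψ : AddChar F ℂ) {i : Fin n} {S : SymM F n} (hS : RowZero i S) (s : F) :
    chX ψ (Pi.single i s) S = 1 := by
  have : S.1 *ᵥ Pi.single i s = fun j => S.1 j i * s := by funext j; simp [mulVec, dotProduct, Pi.single_apply]
  rw [chX_apply, this, single_dotProduct, hS i]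
  simp

theorem tOp_upE (i : Fin n) (t : F) {S : SymM F n} (hS : RowZero i S) (v : R) :
    tOp σ S (σ (upE i t) v) = σ (upE i t) (tOp σ S v) := by
  rw [tOp, ← Module.End.mul_apply, ← map_mul, ← upE_comm_low t hS, map_mul]
  rfl

theorem upE_comm_upE (i j : Fin n) (s t : F) : upE i s * upE j t = upE j t * upE i s :=
  Subtype.ext (by simp [upE, fromBlocks_multiply, add_comm])

/-- The transform of a coordinate vector. -/
theorem Fam.up_axis (hn : 2 ≤ n) (h2' : (2 : F) ≠ 0) (hψ' : ψ.IsPrimitive) (hR : RankOne ψ σ)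
    (hd : Fam ψ h2 hψ σ d) {i j : Fin n} (hij : i ≠ j) {s : F} (hs : s ≠ 0) (t : F) :
    σ (upE i t) (d (Pi.single i s)) ∈ famSpan d ⊔ fixPart σ d j := by
  classical
  set x0 : Fin n → F := Pi.single i s with hx0
  obtain ⟨y, hyx, hM⟩ := exists_weil_upE_ne_zero ψ h2 hψ j (one_ne_zero (α := F)) x0
  have hyl : ∀ l, l ≠ j → y l = x0 l := fun l hl => by
    by_contra h
    exact hM (weil_upE_apply_eq_zero ψ h2 hψ j 1 hl (Ne.symm h))
  have hx0j : x0 j = 0 := by simp [hx0, hij.symm]
  have hx0i : x0 i ≠ 0 := by simpa [hx0] using hs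
  have hyr : y = x0 + Pi.single j (y j) := funext fun l => by
    rcases eq_or_ne l j with rfl | hl
    · simp [hx0j]
    · simp [hl, hyl l hl]
  have hr : y j ≠ 0 := fun e => hyx (by rw [hyr, e, Pi.single_zero, add_zero])
  set a : ℂ := (weil ψ h2 hψ (upE j (1 : F))).1 x0 y with ha
  set A1 : R := ∑ r ∈ Finset.univ.erase (0 : F),
    (weil ψ h2 hψ (upE j (1 : F))).1 (x0 + Pi.single j r) y • d (x0 + Pi.single j r) with hA1
  have hblk : σ (upE j 1) (d y) = A1 + a • d x0 := by
    conv_lhs => rw [hyr]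
    rw [hd.up hn hR hij.symm hx0j hx0i, ← Finset.sum_erase_add _ _ (Finset.mem_univ (0 : F))]
    simp only [← hyr, Pi.single_zero, add_zero, hA1, ha]
  -- the block of the first coordinate through the second axis
  set B : R := σ (upE j 1) (d (Pi.single j (y j))) with hB
  obtain ⟨c, A2, hA2, hsplit⟩ : ∃ c : ℂ, ∃ A2 ∈ famSpan d, σ (upE i t) (σ (upE j 1) (d y)) = A2 + c • B := by
    have hy' : y = Pi.single j (y j) + Pi.single i s := by rw [hx0] at hyr; rw [add_comm]; exact hyr
    have h := hd.up hn hR hij (x := Pi.single j (y j)) (by simp [hij]) (by simpa using hr) t s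
    rw [← hy'] at h
    refine ⟨(weil ψ h2 hψ (upE i t)).1 (Pi.single j (y j)) y, σ (upE j 1) (∑ r ∈ Finset.univ.erase (0 : F),
      (weil ψ h2 hψ (upE i t)).1 (Pi.single j (y j) + Pi.single i r) y • d (Pi.single j (y j) + Pi.single i r)),
      ?_, ?_⟩
    · rw [map_sum]
      refine Submodule.sum_mem _ fun r hr' => ?_
      rw [map_smul]
      refine Submodule.smul_mem _ _ (hd.up_good hn hR hij.symm ?_ _)
      simpa [hij] using Finset.ne_of_mem_erase hr'
    · rw [← Module.End.mul_apply, ← map_mul, upE_comm_upE, map_mul, Module.End.mul_apply, h,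
        ← Finset.sum_erase_add _ _ (Finset.mem_univ (0 : F)), map_add, Pi.single_zero, add_zero, map_smul, hB]
  have hA1' : σ (upE i t) A1 ∈ famSpan d := by
    rw [hA1, map_sum]
    refine Submodule.sum_mem _ fun r hr' => ?_
    rw [map_smul]
    refine Submodule.smul_mem _ _ (hd.up_good hn hR hij ?_ _)
    simpa [hx0j] using Finset.ne_of_mem_erase hr'
  set X : R := σ (upE i t) (d x0) with hX
  set A : R := a⁻¹ • (A2 - σ (upE i t) A1) with hAdef
  have hA : A ∈ famSpan d := Submodule.smul_mem _ _ (sub_mem hA2 hA1')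
  set e : ℂ := a⁻¹ * c with he
  have hXe : X = A + e • B := by
    have h := hsplit
    rw [hblk, map_add, map_smul] at h
    have h' : a • X = (A2 - σ (upE i t) A1) + c • B := by
      rw [hX, ← sub_eq_zero]
      linear_combination (norm := module) h
    rw [hAdef, he, mul_smul, ← smul_add, ← h', inv_smul_smul₀ hM]
  -- weights of the two sides
  have hXfix : ∀ S, RowZero i S → tOp σ S X = X := fun S hS => by
    rw [hX, tOp_upE i t hS, show tOp σ S (d x0) = chX ψ x0 S • d x0 from hd.wt x0 (by simp [hx0, hs]) S,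
      hx0, chX_single ψ hS, one_smul]
  have hBfix : ∀ S, RowZero j S → tOp σ S B = B := fun S hS => by
    rw [hB, tOp_upE j 1 hS, show tOp σ S (d (Pi.single j (y j))) = chX ψ (Pi.single j (y j)) S • d (Pi.single j (y j))
      from hd.wt _ (by simp [hr]) S, chX_single ψ hS, one_smul]
  have hone : ∀ (χ : AddChar (SymM F n) ℂ) (u : R) (S : SymM F n), tOp σ S u = u → prj σ χ u ≠ 0 → χ S = 1 :=
    fun χ u S hu hne => by
      have h := prj_mem σ χ u S
      rw [← prj_comm, hu] at h
      exact (smul_left_injective ℂ hne ((one_smul ℂ _).trans h)).symm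
  rw [← sum_prj σ X]
  refine Submodule.sum_mem _ fun χ _ => ?_
  by_cases hχ : χ = 0
  · subst hχ
    rw [hXe, map_add, hd.prj_zero_famSpan h2' hψ' hA, zero_add, map_smul (prj σ 0) e B]
    exact Submodule.mem_sup_right (Submodule.smul_mem _ _ (Submodule.subset_span ⟨1, y j, hr, rfl⟩))
  by_cases hX0 : prj σ χ X = 0
  · rw [hX0]; exact zero_mem _
  by_cases hB0 : prj σ χ B = 0
  · rw [hXe, map_add, map_smul (prj σ χ) e B, hB0, smul_zero, add_zero]
    exact Submodule.mem_sup_left (hd.prj_famSpan χ hA)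
  exfalso
  obtain ⟨b, z, hz⟩ := hR χ _ hX0 (prj_mem σ χ X)
  have hb : ∀ (l m : Fin n), l ≠ m → RowZero l (sqE m : SymM F n) := fun l m h => rowZero_sqE h
  have hone' : ∀ m : Fin n, ∀ r : F, χ (r • sqE m) = 1 := fun m r => by
    by_cases h : m = i
    · exact hone χ B _ (hBfix _ ((hb j m (h ▸ hij.symm)).smul r)) hB0
    · exact hone χ X _ (hXfix _ ((hb i m (Ne.symm h)).smul r)) hX0
  have hzero : ∀ m, b * (z m * z m) = 0 := fun m => by
    have h := func_eq hψ' (b • sqf z) 0 (sqE m) fun r => by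
      rw [show (b • sqf z) (r • sqE m) = b * sqf z (r • sqE m) from rfl, ← hz, hone', LinearMap.zero_apply,
        AddChar.map_zero_eq_one]
    simpa [sqf, sqE, single_mulVec, Function.update_apply, dotProduct, Pi.single_apply] using h
  refine hχ (DFunLike.ext _ _ fun S => ?_)
  rw [hz, AddChar.zero_apply]
  by_cases hb0 : b = 0
  · simp [hb0]
  · have : z = 0 := funext fun m => mul_self_eq_zero.1 ((mul_eq_zero.1 (hzero m)).resolve_left hb0)
    simp [this, sqf]

/-- All fixed parts agree. -/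
theorem Fam.fixPart_le (hn : 2 ≤ n) (h2' : (2 : F) ≠ 0) (hψ' : ψ.IsPrimitive) (hR : RankOne ψ σ)
    (hd : Fam ψ h2 hψ σ d) {i j : Fin n} (hij : i ≠ j) : fixPart σ d i ≤ fixPart σ d j := by
  refine Submodule.span_le.2 ?_
  rintro v ⟨t, r, hr, rfl⟩
  obtain ⟨a, ha, b, hb, hab⟩ := Submodule.mem_sup.1 (hd.up_axis hn h2' hψ' hR hij hr t)
  rw [← hab, map_add, hd.prj_zero_famSpan h2' hψ' ha, prj_zero_fixPart j hb, zero_add]
  exact hb

/-- The invariant subspace spanned by the family. -/
theorem Fam.exists_invariant (hn : 2 ≤ n) (h2' : (2 : F) ≠ 0) (hψ' : ψ.IsPrimitive) (hR : RankOne ψ σ)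
    (hd : Fam ψ h2 hψ σ d) :
    ∃ Y : Submodule ℂ R, (∀ g, ∀ v ∈ Y, σ g v ∈ Y) ∧ (∀ x, x ≠ 0 → d x ∈ Y) ∧
      Y ≤ famSpan d ⊔ Wt σ 0 ∧
      ∀ P : Submodule ℂ R, (∀ g, ∀ v ∈ P, σ g v ∈ P) → (∀ x, x ≠ 0 → d x ∈ P) → Y ≤ P := by
  classical
  let i0 : Fin n := ⟨0, by omega⟩
  let i1 : Fin n := ⟨1, by omega⟩
  have h01 : i0 ≠ i1 := by simp [i0, i1]
  set Y := famSpan d ⊔ fixPart σ d i1 with hY
  have heq : ∀ j, fixPart σ d j = fixPart σ d i1 := fun j => by
    rcases eq_or_ne j i1 with rfl | h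
    · rfl
    · exact le_antisymm (hd.fixPart_le hn h2' hψ' hR h) (hd.fixPart_le hn h2' hψ' hR h.symm)
  have hother : ∀ j : Fin n, ∃ k, k ≠ j := fun j => by
    rcases eq_or_ne j i0 with rfl | h
    · exact ⟨i1, h01.symm⟩
    · exact ⟨i0, h.symm⟩
  have haxis : ∀ (j : Fin n) (t r : F), r ≠ 0 → σ (upE j t) (d (Pi.single j r)) ∈ Y := fun j t r hr => by
    obtain ⟨k, hk⟩ := hother j
    rw [hY, ← heq k]; exact hd.up_axis hn h2' hψ' hR hk.symm hr t
  have hDY : famSpan d ≤ Y := le_sup_left
  have hupD : ∀ t, ∀ v ∈ famSpan d, σ (upE i0 t) v ∈ Y := fun t v hv => by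
    induction hv using Submodule.span_induction with
    | mem v hv =>
      obtain ⟨x, hx, rfl⟩ := hv
      by_cases h : ∃ k, k ≠ i0 ∧ x k ≠ 0
      · obtain ⟨k, hk, hxk⟩ := h
        exact hDY (hd.up_good hn hR hk.symm hxk t)
      · push Not at h
        have e : x = Pi.single i0 (x i0) := funext fun l => by
          rcases eq_or_ne l i0 with rfl | hl
          · simp
          · simp [hl, h l hl]
        rw [e]
        exact haxis i0 t _ fun e0 => hx (by rw [e, e0, Pi.single_zero])
    | zero => simp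
    | add a b _ _ ha hb => rw [map_add]; exact add_mem ha hb
    | smul c a _ ha => rw [map_smul]; exact Submodule.smul_mem _ _ ha
  -- a generator of the fixed part differs from the transform by an element of the span
  have hdec : ∀ (j : Fin n) (t r : F), r ≠ 0 →
      σ (upE j t) (d (Pi.single j r)) - prj σ 0 (σ (upE j t) (d (Pi.single j r))) ∈ famSpan d := by
    intro j t r hr
    obtain ⟨a, ha, b, hb, hab⟩ := Submodule.mem_sup.1 (haxis j t r hr)
    rw [← hab, map_add, hd.prj_zero_famSpan h2' hψ' ha, prj_zero_fixPart i1 hb, zero_add, add_sub_cancel_right]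
    exact ha
  have hup : ∀ t, ∀ v ∈ fixPart σ d i1, σ (upE i0 t) v ∈ Y := fun t v hv => by
    induction hv using Submodule.span_induction with
    | mem v hv =>
      obtain ⟨t', r, hr, rfl⟩ := hv
      set B := σ (upE i1 t') (d (Pi.single i1 r)) with hB
      rw [show prj σ 0 B = B - (B - prj σ 0 B) by abel, map_sub]
      refine sub_mem ?_ (hupD t _ (hdec i1 t' r hr))
      rw [hB, ← Module.End.mul_apply, ← map_mul, upE_comm_upE, map_mul, Module.End.mul_apply]
      have h := hd.up hn hR h01 (x := Pi.single i1 r) (by simp [h01]) (by simpa using hr) t 0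
      rw [Pi.single_zero, add_zero] at h
      rw [h, map_sum]
      refine Submodule.sum_mem _ fun s _ => ?_
      rw [map_smul]
      refine Submodule.smul_mem _ _ ?_
      rcases eq_or_ne s 0 with rfl | hs
      · rw [Pi.single_zero, add_zero]; exact haxis i1 t' r hr
      · exact hDY (hd.up_good hn hR h01.symm (by simpa [h01] using hs) t')
    | zero => simp
    | add a b _ _ ha hb => rw [map_add]; exact add_mem ha hb
    | smul c a _ ha => rw [map_smul]; exact Submodule.smul_mem _ _ ha
  have hlevD : ∀ A, ∀ v ∈ famSpan d, σ (lev A) v ∈ famSpan d := fun A v hv => by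
    induction hv using Submodule.span_induction with
    | mem v hv =>
      obtain ⟨x, hx, rfl⟩ := hv
      rw [hd.equiv A x hx]
      exact Submodule.smul_mem _ _ (mem_famSpan (fun e => hx (by
        simpa [mulVec_mulVec] using congrArg (fun z => ((A⁻¹ : (Matrix (Fin n) (Fin n) F)ˣ) :
          Matrix (Fin n) (Fin n) F) *ᵥ z) e)) d)
    | zero => simp
    | add a b _ _ ha hb => rw [map_add]; exact add_mem ha hb
    | smul c a _ ha => rw [map_smul]; exact Submodule.smul_mem _ _ ha
  have hfix : ∀ A j, (A : (Matrix (Fin n) (Fin n) F)ˣ).1 *ᵥ Pi.single j 1 = Pi.single j 1 →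
      ∀ v ∈ fixPart σ d j, σ (lev A) v ∈ Y := fun A j hA v hv => by
    induction hv using Submodule.span_induction with
    | mem v hv =>
      obtain ⟨t', r, hr, rfl⟩ := hv
      set B := σ (upE j t') (d (Pi.single j r)) with hB
      rw [show prj σ 0 B = B - (B - prj σ 0 B) by abel, map_sub]
      refine sub_mem ?_ (hDY (hlevD A _ (hdec j t' r hr)))
      rw [hB, ← Module.End.mul_apply, ← map_mul, ← upE_comm_lev j t' A hA, map_mul, Module.End.mul_apply,
        hd.equiv A _ (by simp [hr]), map_smul]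
      refine Submodule.smul_mem _ _ ?_
      rw [show (Pi.single j r : Fin n → F) = r • Pi.single j 1 by rw [← Pi.single_smul, smul_eq_mul, mul_one],
        mulVec_smul, hA, ← Pi.single_smul, smul_eq_mul, mul_one]
      exact haxis j t' r hr
    | zero => simp
    | add a b _ _ ha hb => rw [map_add]; exact add_mem ha hb
    | smul c a _ ha => rw [map_smul]; exact Submodule.smul_mem _ _ ha
  have hlev : ∀ A : (Matrix (Fin n) (Fin n) F)ˣ, ∀ v ∈ Y, σ (lev A) v ∈ Y := by
    refine units_induction _ (fun v hv => by simpa [lev_one] using hv)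
      (fun A B hA hB v hv => by rw [lev_mul, map_mul, Module.End.mul_apply]; exact hA _ (hB v hv))
      (fun a b hab r => ?_) (fun a c => ?_)
    · obtain ⟨j, hj⟩ := hother b
      intro v hv
      rw [hY, ← heq j] at hv
      obtain ⟨p, hp, w, hw, rfl⟩ := Submodule.mem_sup.1 hv
      rw [map_add]
      refine add_mem (hDY (hlevD _ p hp)) (hfix _ j ?_ w hw)
      rw [shU_mulVec, Pi.single_eq_of_ne hj.symm, mul_zero, Pi.single_zero, add_zero]
    · obtain ⟨j, hj⟩ := hother a
      intro v hv
      rw [hY, ← heq j] at hv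
      obtain ⟨p, hp, w, hw, rfl⟩ := Submodule.mem_sup.1 hv
      rw [map_add]
      refine add_mem (hDY (hlevD _ p hp)) (hfix _ j ?_ w hw)
      rw [scU_mulVec, Pi.single_eq_of_ne hj.symm, mul_zero, Pi.single_zero, add_zero]
  have hlowD : ∀ S, ∀ p ∈ famSpan d, σ (low S) p ∈ famSpan d := fun S p hp => by
    induction hp using Submodule.span_induction with
    | mem v hv =>
      obtain ⟨x, hx, rfl⟩ := hv
      rw [show σ (low S) (d x) = chX ψ x S • d x from hd.wt x hx S]
      exact Submodule.smul_mem _ _ (mem_famSpan hx d)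
    | zero => simp
    | add a b _ _ ha hb => rw [map_add]; exact add_mem ha hb
    | smul c a _ ha => rw [map_smul]; exact Submodule.smul_mem _ _ ha
  have hlow : ∀ S, ∀ v ∈ Y, σ (low S) v ∈ Y := fun S v hv => by
    obtain ⟨p, hp, w, hw, rfl⟩ := Submodule.mem_sup.1 hv
    rw [map_add]
    refine add_mem (hDY (hlowD S p hp)) ?_
    · rw [show σ (low S) w = (0 : AddChar (SymM F n) ℂ) S • w from fixPart_le_Wt i1 hw S, AddChar.zero_apply, one_smul]
      exact Submodule.mem_sup_right hw
  have hinv : stabSub σ Y = ⊤ := eq_top_of_gens i0 _ hlow (fun t v hv => by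
      obtain ⟨p, hp, w, hw, rfl⟩ := Submodule.mem_sup.1 hv
      rw [map_add]; exact add_mem (hupD t p hp) (hup t w hw))
    fun A h hh => (stabSub σ Y).mul_mem ((stabSub σ Y).mul_mem (hlev A) hh) ((stabSub σ Y).inv_mem (hlev A))
  refine ⟨Y, fun g => (show g ∈ stabSub σ Y from hinv ▸ Subgroup.mem_top g), fun x hx => hDY (mem_famSpan hx d),
    sup_le_sup_left (fixPart_le_Wt i1) _, fun P hP hd' => ?_⟩
  have hDP : famSpan d ≤ P := Submodule.span_le.2 (by rintro v ⟨x, hx, rfl⟩; exact hd' x hx)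
  refine sup_le hDP (Submodule.span_le.2 ?_)
  rintro v ⟨t, r, hr, rfl⟩
  exact prj_mem_of_invariant P hP 0 (hP _ _ (hd' _ (by simp [hr])))

end CfsgLib.PLocal.WeilGap
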