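import Cfsg.Agent.Lib.Char.Basic
import Cfsg.Agent.Lib.PLocal.WeilGap.Glue

/-!
# Rank-one irreducible representations are Weil representations
-/

set_option autoImplicit false

namespace CfsgLib.PLocal.WeilGap

open Matrix CfsgLib.PLocal.Weil

variable {F : Type*} [Field F] [Fintype F]

noncomputable local instance instFintypeSymMUnique {n : ℕ} : Fintype (SymM F n) := Fintype.ofFinite _

variable [DecidableEq F] (ψ : AddChar F ℂ) (h2 : (2 : F) ≠ 0) (hψ : ψ.IsPrimitive)

/-- A block of the Weil representation. -/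
noncomputable def bRep (n : ℕ) (η : ℂ) :
    Representation ℂ (Matrix.symplecticGroup (Fin n) F) (Vp n F η) :=
  (blk η).comp (weil ψ h2 hψ)

variable {n : ℕ}

theorem bRep_val (η : ℂ) (g : Matrix.symplecticGroup (Fin n) F) (f : Vp n F η) :
    (bRep ψ h2 hψ n η g f).1 = wRep ψ h2 hψ g f.1 := rfl

theorem wRep_mem_Vp (η : ℂ) (g : Matrix.symplecticGroup (Fin n) F) {f : (Fin n → F) → ℂ}
    (hf : f ∈ Vp n F η) : wRep ψ h2 hψ g f ∈ Vp n F η :=
  mulVec_mem_Vp (weil ψ h2 hψ g).2 hf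

/-- The symmetrised delta functions. -/
noncomputable def dW (η : ℂ) (x : Fin n → F) : (Fin n → F) → ℂ := Pi.single x 1 + η • Pi.single (-x) 1

theorem dW_mem {η : ℂ} (hη : η * η = 1) (x : Fin n → F) : dW η x ∈ Vp n F η := by
  rw [mem_Vp]
  funext y
  rw [par_mulVec]
  simp only [dW, Pi.add_apply, Pi.smul_apply, smul_eq_mul, Pi.single_apply, neg_inj]
  by_cases h1 : y = x <;> by_cases h3 : y = -x <;>
    simp [h1, h3, neg_eq_iff_eq_neg, hη] <;> grind

theorem fam_dW (hn : 2 ≤ n) (η : ℂ) : Fam ψ h2 hψ (wRep (n := n) ψ h2 hψ) (dW η) := by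
  refine ⟨fun x _ S => ?_, fun A x _ => ?_⟩
  · rw [tOp, dW, map_add, map_smul, wRep_low_single ψ h2 hψ hn, wRep_low_single ψ h2 hψ hn, chX_neg,
      smul_add, smul_comm]
  · rw [dW, map_add, map_smul, wRep_lev_single, wRep_lev_single, dW, smul_add, smul_comm, mulVec_neg]

omit [Fintype F] in
theorem neg_ne (h2 : (2 : F) ≠ 0) {x : Fin n → F} (hx : x ≠ 0) : -x ≠ x := fun e => hx (funext fun i => by
  have : (2 : F) * x i = 0 := by
    have := congrFun e i
    simp only [Pi.neg_apply] at this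
    linear_combination -this
  exact (mul_eq_zero.1 this).resolve_left h2)

theorem dW_apply_self (h2 : (2 : F) ≠ 0) (η : ℂ) {x : Fin n → F} (hx : x ≠ 0) : dW η x x = 1 := by
  simp [dW, (neg_ne h2 hx).symm]

omit [Fintype F] in
theorem exists_unit_axis {m : ℕ} {x : Fin (m + 1) → F} (hx : x ≠ 0) :
    ∃ A : (Matrix (Fin (m + 1)) (Fin (m + 1)) F)ˣ,
      (A : Matrix (Fin (m + 1)) (Fin (m + 1)) F) *ᵥ Pi.single 0 1 = x :=
  exists_unit_mulVec (by simp) hx

omit [DecidableEq F] in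
theorem units_mulVec_ne_zero (A : (Matrix (Fin n) (Fin n) F)ˣ) {x : Fin n → F} (hx : x ≠ 0) :
    (A : Matrix (Fin n) (Fin n) F) *ᵥ x ≠ 0 := fun e => hx (by
  simpa [mulVec_mulVec] using congrArg (fun z => ((A⁻¹ : (Matrix (Fin n) (Fin n) F)ˣ) :
    Matrix (Fin n) (Fin n) F) *ᵥ z) e)

/-- An invariant subspace with one delta function contains the whole block. -/
theorem Vp_le_of_mem (hn : 2 ≤ n) {η : ℂ} (hη : η * η = 1) (P : Submodule ℂ ((Fin n → F) → ℂ))
    (hP : ∀ g, ∀ f ∈ P, wRep ψ h2 hψ g f ∈ P) (hd : ∀ x, x ≠ 0 → dW η x ∈ P) : Vp n F η ≤ P := by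
  classical
  have hsym : ∀ f ∈ Vp n F η, ∀ y, f (-y) = η * f y := fun f hf y => by
    have h := congrFun ((mem_Vp η f).1 hf) y
    rwa [par_mulVec] at h
  have hdec : ∀ f ∈ Vp n F η,
      f - ∑ x ∈ Finset.univ.erase (0 : Fin n → F), (f x / 2) • dW η x = Pi.single 0 (f 0) := by
    intro f hf
    funext y
    simp only [Pi.sub_apply, Finset.sum_apply, Pi.smul_apply, smul_eq_mul, dW, Pi.add_apply, mul_add,
      Finset.sum_add_distrib, Pi.single_apply, eq_comm (a := y), neg_eq_iff_eq_neg]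
    rcases eq_or_ne y 0 with rfl | hy
    · rw [Finset.sum_eq_zero fun x hx => by simp [Finset.ne_of_mem_erase hx],
        Finset.sum_eq_zero fun x hx => by simp [Finset.ne_of_mem_erase hx]]
      simp
    · rw [Finset.sum_eq_single y (fun b _ hb => by simp [hb]) (by simp [hy]),
        Finset.sum_eq_single (-y) (fun b _ hb => by simp [hb]) (by simp [hy])]
      simp only [if_true, hsym f hf y, if_neg (Ne.symm hy)]
      linear_combination -(f y / 2) * hη
  have hsum : ∀ f : (Fin n → F) → ℂ,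
      ∑ x ∈ Finset.univ.erase (0 : Fin n → F), (f x / 2) • dW η x ∈ P := fun f =>
    P.sum_mem fun x hx => P.smul_mem _ (hd x (Finset.ne_of_mem_erase hx))
  intro f hf
  rw [← sub_add_cancel f (∑ x ∈ Finset.univ.erase (0 : Fin n → F), (f x / 2) • dW η x), hdec f hf]
  refine P.add_mem ?_ (hsum f)
  by_cases hf0 : f 0 = 0
  · rw [hf0, Pi.single_zero]; exact P.zero_mem
  have hη1 : η = 1 := by
    have h := hsym f hf 0
    rw [neg_zero] at h
    exact (mul_eq_right₀ hf0).1 h.symm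
  subst hη1
  let i : Fin n := ⟨0, by omega⟩
  obtain ⟨y, hy, hM⟩ := exists_weil_upE_ne_zero ψ h2 hψ i (one_ne_zero (α := F)) (0 : Fin n → F)
  set M := (weil ψ h2 hψ (upE i (1 : F))).1 with hMdef
  set f1 := wRep ψ h2 hψ (upE i 1) (dW 1 y) with hf1
  have hf1P : f1 ∈ P := hP _ _ (hd y hy)
  have hsym' : M 0 (-y) = M 0 y := by
    have hc := congrFun (congrFun ((mem_Cp M).1 (weil ψ h2 hψ (upE i (1 : F))).2) 0) y
    rw [Matrix.mul_apply, Matrix.mul_apply, Finset.sum_eq_single (0 : Fin n → F), Finset.sum_eq_single (-y)] at hc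
    rotate_left
    · intro b _ hb; simp [par, show y ≠ -b from fun e => hb (by rw [e, neg_neg])]
    · simp
    · intro b _ hb; simp [par, hb]
    · simp
    simpa [par] using hc.symm
  have hf10 : f1 0 = 2 * M 0 y := by
    rw [hf1, wRep_apply, dW, one_smul, mulVec_add, Pi.add_apply, mulVec_single_one, mulVec_single_one, col_apply,
      col_apply, ← hMdef, hsym', two_mul]
  have hz := hdec f1 (wRep_mem_Vp ψ h2 hψ 1 _ (dW_mem hη y))
  have h1 : Pi.single 0 (f1 0) ∈ P := by rw [← hz]; exact P.sub_mem hf1P (hsum f1)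
  have hf1ne : f1 0 ≠ 0 := by rw [hf10]; exact mul_ne_zero two_ne_zero hM
  have := P.smul_mem (f 0 / f1 0) h1
  rwa [← Pi.single_smul, smul_eq_mul, div_mul_cancel₀ _ hf1ne] at this

/-- The weight spaces of a block are lines. -/
theorem eq_smul_dW (hn : 2 ≤ n) {η : ℂ} {f : (Fin n → F) → ℂ} (hf : f ∈ Vp n F η) {x : Fin n → F}
    (hx : x ≠ 0) (hw : f ∈ Wt (wRep ψ h2 hψ) (chX ψ x)) : f = f x • dW η x := by
  funext y
  have hsupp : ∀ z, f z ≠ 0 → z = x ∨ z = -x := fun z hz =>
    chX_inj h2 hψ (DFunLike.ext _ _ fun S => by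
      have h := congrFun (hw S) z
      rw [tOp, wRep_low_apply ψ h2 hψ hn, Pi.smul_apply, smul_eq_mul] at h
      exact (mul_right_cancel₀ hz h).symm)
  have hneg : f (-x) = η * f x := by
    have h := congrFun ((mem_Vp η f).1 hf) x
    rwa [par_mulVec] at h
  rcases eq_or_ne y x with rfl | h1
  · simp [dW, (neg_ne h2 hx).symm]
  rcases eq_or_ne y (-x) with rfl | h3
  · simp [dW, neg_ne h2 hx, hneg, mul_comm]
  · have : f y = 0 := by
      by_contra h
      rcases hsupp y h with e | e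
      exacts [h1 e, h3 e]
    simp [dW, h1, h3, this]

theorem isIrreducible_bRep (hn : 2 ≤ n) {η : ℂ} (hη : η * η = 1) :
    (bRep ψ h2 hψ n η).IsIrreducible := by
  classical
  obtain ⟨m, rfl⟩ : ∃ m, n = m + 1 := ⟨n - 1, by omega⟩
  rw [Representation.IsIrreducible]
  refine { exists_pair_ne := ⟨⊥, ⊤, fun h => ?_⟩, eq_bot_or_eq_top := fun U => ?_ }
  · have h1 : (⊥ : Submodule ℂ (Vp (m + 1) F η)) = ⊤ := congrArg Subrepresentation.toSubmodule h
    have hm : (⟨dW η (Pi.single 0 1), dW_mem hη _⟩ : Vp (m + 1) F η) ∈ (⊥ : Submodule ℂ (Vp (m + 1) F η)) := by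
      rw [h1]; trivial
    have h0 := congrFun (congrArg Subtype.val ((Submodule.mem_bot ℂ).1 hm)) (Pi.single 0 1)
    simp [dW_apply_self h2 η (x := (Pi.single 0 1 : Fin (m + 1) → F)) (by simp)] at h0
  set P : Submodule ℂ ((Fin (m + 1) → F) → ℂ) := U.toSubmodule.map (Vp (m + 1) F η).subtype with hP
  have hPle : P ≤ Vp (m + 1) F η := Submodule.map_subtype_le _ _
  have hPinv : ∀ g, ∀ f ∈ P, wRep ψ h2 hψ g f ∈ P := by
    rintro g _ ⟨f, hf, rfl⟩
    exact ⟨_, U.apply_mem_toSubmodule g hf, rfl⟩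
  by_cases hlow : ∀ S, ∀ f ∈ P, wRep ψ h2 hψ (low S) f = f
  · refine .inl (Subrepresentation.toSubmodule_injective ((Submodule.eq_bot_iff _).2 fun f hf => Subtype.ext ?_))
    have hfix := fixed_of_low_trivial hn P hPinv hlow
    exact wRep_no_fixed ψ h2 hψ hn _ fun g => hfix g _ ⟨f, hf, rfl⟩
  · push Not at hlow
    obtain ⟨S0, f, hf, hne⟩ := hlow
    obtain ⟨χ, hχ, hne'⟩ : ∃ χ, χ ≠ 0 ∧ prj (wRep ψ h2 hψ) χ f ≠ 0 := by
      by_contra! hc
      refine hne ?_
      have h := sum_prj (wRep ψ h2 hψ) f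
      rw [Finset.sum_eq_single 0 (fun χ _ hχ => hc χ hχ) (by simp)] at h
      have hw := prj_mem (wRep ψ h2 hψ) 0 f S0
      rw [h, AddChar.zero_apply, one_smul] at hw
      exact hw
    set f1 := prj (wRep ψ h2 hψ) χ f with hf1
    have hf1P : f1 ∈ P := prj_mem_of_invariant P hPinv χ hf
    obtain ⟨z, hz⟩ := Function.ne_iff.1 hne'
    have hχz : χ = chX ψ z := DFunLike.ext _ _ fun S => by
      have h := congrFun (prj_mem (wRep ψ h2 hψ) χ f S) z
      rw [tOp, wRep_low_apply ψ h2 hψ hn, Pi.smul_apply, smul_eq_mul] at h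
      exact (mul_right_cancel₀ hz h).symm
    have hz0 : z ≠ 0 := fun e => hχ (by
      rw [hχz, e]; exact DFunLike.ext _ _ fun S => by simp [chX_apply])
    have hdz : dW η z ∈ P := by
      have he : f1 = f1 z • dW η z :=
        eq_smul_dW ψ h2 hψ hn (hPle hf1P) hz0 (by rw [← hχz]; exact prj_mem _ χ f)
      have h := P.smul_mem (f1 z)⁻¹ hf1P
      conv at h => arg 2; arg 2; rw [he]
      rwa [inv_smul_smul₀ hz] at h
    have hall : ∀ x, x ≠ 0 → dW η x ∈ P := fun x hx => by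
      obtain ⟨A, hA⟩ := exists_unit_mulVec hz0 hx
      have h := hPinv (lev A) _ hdz
      rw [(fam_dW ψ h2 hψ hn η).equiv A z hz0, hA] at h
      have := P.smul_mem (cL ψ h2 hψ A)⁻¹ h
      rwa [inv_smul_smul₀ (cL_ne_zero ψ h2 hψ A)] at this
    refine .inr (Subrepresentation.toSubmodule_injective ((Submodule.eq_top_iff').2 fun f => ?_))
    obtain ⟨f', hf', e⟩ := Vp_le_of_mem ψ h2 hψ hn hη P hPinv hall f.2
    rwa [Subtype.ext e] at hf'

variable {V : Type*} [AddCommGroup V] [Module ℂ V]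

omit [Fintype F] [DecidableEq F] in
theorem scU_shU {i k : Fin n} (hik : i ≠ k) (r : F) :
    scU k (-1 : Fˣ) * shU i k hik r = shU i k hik (-r) * scU k (-1 : Fˣ) := by
  apply Units.ext
  simp only [scU, shU, transvection, Units.val_mul, Units.val_neg, Units.val_one, Matrix.add_mul, Matrix.mul_add,
    Matrix.one_mul, Matrix.mul_one, single_mul_single_same, single_mul_single_of_ne, hik, hik.symm, ne_eq,
    not_false_eq_true, add_zero]
  ext x y
  simp only [Matrix.add_apply, single_apply, Matrix.one_apply]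
  split_ifs <;> grind

/-- The stabiliser of a weight acts on its weight space by the Weil scalar. -/
theorem stab_apply {m : ℕ} (hn : 2 ≤ m + 1)
    {ρ : Representation ℂ (Matrix.symplecticGroup (Fin (m + 1)) F) V} (hR : RankOne ψ ρ)
    (A : (Matrix (Fin (m + 1)) (Fin (m + 1)) F)ˣ)
    (hA : (A : Matrix (Fin (m + 1)) (Fin (m + 1)) F) *ᵥ Pi.single 0 1 = Pi.single 0 1) {u : V}
    (hu : u ∈ Wt ρ (chX ψ (Pi.single 0 1))) : ρ (lev A) u = cL ψ h2 hψ A • u := by
  have hsc : ∀ (i : Fin (m + 1)) (a : Fˣ), i ≠ 0 → ∀ u ∈ Wt ρ (chX ψ (Pi.single 0 1)),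
      ρ (lev (scU i a)) u = cL ψ h2 hψ (scU i a) • u := fun i a hi u hu =>
    scU_apply ψ h2 hψ ρ hn hR i 0 hi (Pi.single 0 1) (by simp [hi]) (by simp) hu a
  refine stab_induction (fun A => ∀ u ∈ Wt ρ (chX ψ (Pi.single 0 1)), ρ (lev A) u = cL ψ h2 hψ A • u)
    (fun u _ => by rw [lev_one, map_one, Module.End.one_apply, cL_one, one_smul])
    (fun A B hA hB u hu => by
      rw [lev_mul, map_mul, Module.End.mul_apply, hB u hu, map_smul, hA u hu, smul_smul, cL_mul, mul_comm])
    (fun i k hik r hk u hu => ?_) hsc A hA u hu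
  have key : ∀ r, ρ (lev (shU i k hik (-r))) u = ρ (lev (shU i k hik r)) u := fun r => by
    have hmem : ρ (lev (shU i k hik r)) u ∈ Wt ρ (chX ψ (Pi.single 0 1)) := by
      have := lev_mem_Wt ψ ρ (shU i k hik r) hu
      rwa [shU_mulVec, Pi.single_eq_of_ne hk, mul_zero, Pi.single_zero, add_zero] at this
    have h := congrArg (fun B => ρ (lev B) u) (scU_shU hik r)
    simp only [lev_mul, map_mul, Module.End.mul_apply] at h
    rw [hsc k _ hk _ hmem, hsc k _ hk u hu, map_smul] at h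
    exact (smul_right_injective V (cL_ne_zero ψ h2 hψ _) h).symm
  have keyc : ∀ r, cL ψ h2 hψ (shU i k hik (-r)) = cL ψ h2 hψ (shU i k hik r) := fun r => by
    have h := congrArg (cL ψ h2 hψ) (scU_shU hik r)
    rw [cL_mul, cL_mul, mul_comm] at h
    exact (mul_right_cancel₀ (cL_ne_zero ψ h2 hψ _) h).symm
  have hhalf : shU i k hik r = shU i k hik (r / 2) * (shU i k hik (-(r / 2)))⁻¹ := by
    have : (shU i k hik (-(r / 2)))⁻¹ = shU i k hik (r / 2) :=
      inv_eq_of_mul_eq_one_right (by rw [← shU_add, neg_add_cancel, shU_zero])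
    rw [this, ← shU_add]; congr 1; field_simp; ring
  have h1 : ρ (lev (shU i k hik r)) u = u := by
    have e := congrArg (ρ (lev (shU i k hik (r / 2)))) (key (r / 2))
    simp only [← Module.End.mul_apply, ← map_mul, ← lev_mul, ← shU_add, add_neg_cancel, shU_zero, lev_one,
      map_one, Module.End.one_apply] at e
    rw [show r = r / 2 + r / 2 by field_simp; ring]
    exact e.symm
  have h3 : cL ψ h2 hψ (shU i k hik r) = 1 := by
    rw [hhalf, cL_mul, ← keyc, ← cL_mul, mul_inv_cancel, cL_one]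
  rw [h1, h3, one_smul]

/-- A rank-one irreducible representation with a given weight is a block of the Weil representation. -/
theorem exists_eq_bRep (hn : 2 ≤ n) [FiniteDimensional ℂ V]
    (ρ : Representation ℂ (Matrix.symplecticGroup (Fin n) F) V) [hirr : ρ.IsIrreducible]
    (hR : RankOne ψ ρ) {x : Fin n → F} (hx : x ≠ 0) {u0 : V} (hu0 : u0 ≠ 0) (hw : u0 ∈ Wt ρ (chX ψ x)) :
    ∃ η : ℂ, η * η = 1 ∧ ρ.character = (bRep ψ h2 hψ n η).character := by
  classical
  obtain ⟨m, rfl⟩ : ∃ m, n = m + 1 := ⟨n - 1, by omega⟩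
  set e0 : Fin (m + 1) → F := Pi.single 0 1 with he0
  have he00 : e0 ≠ 0 := by simp [he0]
  -- the subspaces invariant under the group are trivial
  have hsimple : ∀ P : Submodule ℂ V, (∀ g, ∀ v ∈ P, ρ g v ∈ P) → P = ⊥ ∨ P = ⊤ := fun P hP => by
    have := hirr
    rw [Representation.IsIrreducible] at this
    rcases this.eq_bot_or_eq_top ⟨P, fun g v hv => hP g v hv⟩ with h | h
    · exact .inl (congrArg Subrepresentation.toSubmodule h)
    · exact .inr (congrArg Subrepresentation.toSubmodule h)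
  -- a weight vector at the first axis
  obtain ⟨u, hu, hu'⟩ : ∃ u : V, u ≠ 0 ∧ u ∈ Wt ρ (chX ψ e0) := by
    obtain ⟨A, hA⟩ := exists_unit_mulVec hx he00
    refine ⟨ρ (lev A) u0, fun e => hu0 ?_, hA ▸ lev_mem_Wt ψ ρ A hw⟩
    have h := congrArg (ρ (lev A)⁻¹) e
    rwa [← Module.End.mul_apply, ← map_mul, inv_mul_cancel, map_one, map_zero, Module.End.one_apply] at h
  -- the central scalar
  set N : (Matrix (Fin (m + 1)) (Fin (m + 1)) F)ˣ := -1 with hN
  have hcen : ∀ g, lev N * g = g * lev N := fun g => Subtype.ext (by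
    have hm : (lev N).1 = -1 := by
      show fromBlocks _ _ _ _ = _
      rw [hN, inv_neg, inv_one, ← fromBlocks_one, fromBlocks_neg]
      simp
    rw [Submonoid.coe_mul, Submonoid.coe_mul, hm]
    simp)
  obtain ⟨z, hz⟩ : ∃ z : ℂ, ∀ v, ρ (lev N) v = z • v := by
    haveI : Nontrivial V := nontrivial_of_ne u 0 hu
    obtain ⟨z, hz⟩ := Module.End.exists_eigenvalue (ρ (lev N))
    refine ⟨z, ?_⟩
    rcases hsimple (Module.End.eigenspace (ρ (lev N)) z) (fun g v hv => by
      rw [Module.End.mem_eigenspace_iff] at hv ⊢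
      rw [← Module.End.mul_apply, ← map_mul, hcen, map_mul, Module.End.mul_apply, hv, map_smul]) with h | h
    · exact absurd h hz
    · exact fun v => Module.End.mem_eigenspace_iff.1 (h ▸ Submodule.mem_top)
  set c0 := cL ψ h2 hψ N with hc0
  have hc0' : c0 ≠ 0 := cL_ne_zero ψ h2 hψ N
  have hN2 : N * N = 1 := by rw [hN, neg_mul_neg, one_mul]
  have hz2 : z * z = 1 := by
    have h : ρ (lev N * lev N) u = u := by rw [← lev_mul, hN2, lev_one, map_one, Module.End.one_apply]
    rw [map_mul, Module.End.mul_apply, hz u, map_smul, hz u, smul_smul] at h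
    exact smul_left_injective ℂ hu (h.trans (one_smul ℂ u).symm)
  have hc2 : c0 * c0 = 1 := by rw [hc0, ← cL_mul, hN2, cL_one]
  set η := z / c0 with hη
  have hη2 : η * η = 1 := by rw [hη, div_mul_div_comm, hz2, hc2, div_one]
  -- the equivariant family
  have hAx : ∀ y : Fin (m + 1) → F, ∃ A : (Matrix (Fin (m + 1)) (Fin (m + 1)) F)ˣ,
      y ≠ 0 → (A : Matrix (Fin (m + 1)) (Fin (m + 1)) F) *ᵥ e0 = y := fun y => by
    by_cases hy : y = 0
    · exact ⟨1, fun h => absurd hy h⟩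
    · obtain ⟨A, hA⟩ := exists_unit_axis hy
      exact ⟨A, fun _ => hA⟩
  choose Ax hAx using hAx
  set dV : (Fin (m + 1) → F) → V := fun y => (cL ψ h2 hψ (Ax y))⁻¹ • ρ (lev (Ax y)) u with hdV
  have hdVw : ∀ y, y ≠ 0 → dV y ∈ Wt ρ (chX ψ y) := fun y hy => by
    have h := Submodule.smul_mem _ (cL ψ h2 hψ (Ax y))⁻¹ (lev_mem_Wt ψ ρ (Ax y) hu')
    rwa [hAx y hy] at h
  have hdVne : ∀ y, dV y ≠ 0 := fun y e => by
    refine hu ?_
    have h := congrArg (ρ (lev (Ax y))⁻¹) ((smul_eq_zero.1 e).resolve_left (inv_ne_zero (cL_ne_zero ψ h2 hψ _)))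
    rwa [← Module.End.mul_apply, ← map_mul, inv_mul_cancel, map_one, map_zero, Module.End.one_apply] at h
  have hdVe : ∀ A y, y ≠ 0 →
      ρ (lev A) (dV y) = cL ψ h2 hψ A • dV ((A : Matrix (Fin (m + 1)) (Fin (m + 1)) F) *ᵥ y) := by
    intro A y hy
    set y' := (A : Matrix (Fin (m + 1)) (Fin (m + 1)) F) *ᵥ y with hy'
    have hy'0 : y' ≠ 0 := units_mulVec_ne_zero A hy
    set B := (Ax y')⁻¹ * (A * Ax y) with hB
    have hBe : (B : Matrix (Fin (m + 1)) (Fin (m + 1)) F) *ᵥ e0 = e0 := by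
      rw [hB, Units.val_mul, Units.val_mul, ← mulVec_mulVec, ← mulVec_mulVec, hAx y hy, ← hy']
      have h1 := congrArg (fun z => (((Ax y')⁻¹ : (Matrix (Fin (m + 1)) (Fin (m + 1)) F)ˣ) :
        Matrix (Fin (m + 1)) (Fin (m + 1)) F) *ᵥ z) (hAx y' hy'0)
      simp only [mulVec_mulVec, Units.inv_mul, one_mulVec] at h1
      exact h1.symm
    have hb := stab_apply ψ h2 hψ hn hR B hBe hu'
    have hc1 := cL_ne_zero ψ h2 hψ (Ax y)
    have hc3 := cL_ne_zero ψ h2 hψ (Ax y')
    have hprod : A * Ax y = Ax y' * B := by rw [hB, mul_inv_cancel_left]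
    have hcc := congrArg (cL ψ h2 hψ) hprod
    rw [cL_mul, cL_mul] at hcc
    simp only [hdV]
    rw [map_smul, ← Module.End.mul_apply, ← map_mul, ← lev_mul, hprod, lev_mul, map_mul, Module.End.mul_apply,
      hb, map_smul, smul_smul, smul_smul]
    congr 1
    field_simp
    linear_combination -hcc
  have hdVneg : ∀ y, y ≠ 0 → dV (-y) = η • dV y := fun y hy => by
    have h := hdVe N y hy
    rw [hz, show (N : Matrix (Fin (m + 1)) (Fin (m + 1)) F) *ᵥ y = -y by simp [hN, neg_mulVec], ← hc0] at h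
    rw [hη, div_eq_inv_mul, mul_smul, h, inv_smul_smul₀ hc0']
  -- the product
  set W := ((Fin (m + 1) → F) → ℂ)
  set τ := wRep (n := m + 1) ψ h2 hψ with hτ
  let σ : Representation ℂ (Matrix.symplecticGroup (Fin (m + 1)) F) (V × W) :=
    { toFun := fun g => LinearMap.prodMap (ρ g) (τ g)
      map_one' := by rw [map_one, map_one]; rfl
      map_mul' := fun g g' => by rw [map_mul, map_mul]; rfl }
  have hσR : RankOne ψ σ := fun χ v hv hχ => by
    by_cases h : v.1 = 0
    · exact rankOne_wRep ψ h2 hψ hn χ v.2 (fun e => hv (Prod.ext h e)) fun S => congrArg Prod.snd (hχ S)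
    · exact hR χ v.1 h fun S => congrArg Prod.fst (hχ S)
  set d : (Fin (m + 1) → F) → V × W := fun y => (dV y, dW η y) with hd
  have hfam : Fam ψ h2 hψ σ d :=
    ⟨fun y hy S => Prod.ext (hdVw y hy S) ((fam_dW ψ h2 hψ hn η).wt y hy S),
      fun A y hy => Prod.ext (hdVe A y hy) ((fam_dW ψ h2 hψ hn η).equiv A y hy)⟩
  obtain ⟨Y, hYinv, hYd, hYle, hYmin⟩ := hfam.exists_invariant hn h2 hψ hσR
  -- each nonzero weight space of `Y` is a line of the family
  have hline : ∀ v ∈ Y, ∀ χ : AddChar (SymM F (m + 1)) ℂ, χ ≠ 0 → prj σ χ v ≠ 0 →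
      ∃ y, y ≠ 0 ∧ χ = chX ψ y ∧ ∃ a : ℂ, prj σ χ v = a • d y := by
    intro v hv χ hχ hne
    obtain ⟨p, hp, w, hw, rfl⟩ := Submodule.mem_sup.1 (hYle hv)
    rw [map_add, prj_apply σ χ 0 hw, if_neg hχ, add_zero] at hne ⊢
    obtain ⟨y, hy, hχy⟩ : ∃ y, y ≠ 0 ∧ χ = chX ψ y := by
      by_contra! hc
      refine hne ?_
      clear hne hv
      induction hp using Submodule.span_induction with
      | mem v hv =>
        obtain ⟨y, hy, rfl⟩ := hv
        rw [prj_apply σ χ _ (hfam.wt y hy), if_neg (hc y hy)]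
      | zero => simp
      | add a b _ _ ha hb => rw [map_add, ha, hb, add_zero]
      | smul c a _ ha => rw [map_smul, ha, smul_zero]
    refine ⟨y, hy, hχy, Submodule.mem_span_singleton.1 ?_ |>.imp fun a h => h.symm⟩
    clear hne hv
    induction hp using Submodule.span_induction with
    | mem v hv =>
      obtain ⟨y', hy', rfl⟩ := hv
      rw [prj_apply σ χ _ (hfam.wt y' hy')]
      split_ifs with h
      · rw [hχy] at h
        rcases chX_inj h2 hψ h with rfl | rfl
        · exact Submodule.mem_span_singleton_self _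
        · refine Submodule.mem_span_singleton.2 ⟨η, ?_⟩
          refine Prod.ext (hdVneg y hy).symm ?_
          show η • dW η y = dW η (-y)
          simp only [dW, neg_neg, smul_add, smul_smul, hη2, one_smul, add_comm]
      · exact zero_mem _
    | zero => simp
    | add a b _ _ ha hb => rw [map_add]; exact add_mem ha hb
    | smul c a _ ha => rw [map_smul]; exact Submodule.smul_mem _ _ ha
  have hfst : ∀ (χ : AddChar (SymM F (m + 1)) ℂ) v, (prj σ χ v).1 = prj ρ χ v.1 := fun χ v =>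
    prj_map (LinearMap.fst ℂ V W) (fun g v => rfl) χ v
  have hsnd : ∀ (χ : AddChar (SymM F (m + 1)) ℂ) v, (prj σ χ v).2 = prj τ χ v.2 := fun χ v =>
    prj_map (LinearMap.snd ℂ V W) (fun g v => rfl) χ v
  -- no kernel on either side
  have hker1 : ∀ v ∈ Y, v.2 = 0 → v = 0 := by
    set P : Submodule ℂ V := Y.comap (LinearMap.inl ℂ V W) with hPdef
    have hPinv : ∀ g, ∀ v ∈ P, ρ g v ∈ P := fun g v hv => by
      have h := hYinv g _ hv
      have e : σ g ((LinearMap.inl ℂ V W) v) = (LinearMap.inl ℂ V W) (ρ g v) :=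
        Prod.ext rfl (map_zero (τ g))
      rwa [e] at h
    have hlow : ∀ S, ∀ v ∈ P, ρ (low S) v = v := fun S v hv => by
      have h0 : prj ρ 0 v = v := by
        have h := sum_prj ρ v
        rw [Finset.sum_eq_single 0 (fun χ _ hχ => ?_) (by simp)] at h
        · exact h
        by_contra hne
        have hv' : ((v, 0) : V × W) ∈ Y := hv
        obtain ⟨y, hy, -, a, ha⟩ := hline _ hv' χ hχ fun e => hne (by
          have := congrArg Prod.fst e; rwa [hfst] at this)
        have h3 := congrFun (congrArg Prod.snd ha) y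
        rw [hsnd, map_zero] at h3
        have ha0 : a = 0 := by
          change (0 : ℂ) = a * dW η y y at h3
          rw [dW_apply_self h2 η hy, mul_one] at h3
          exact h3.symm
        exact hne (by have := congrArg Prod.fst ha; rwa [hfst, ha0, zero_smul] at this)
      conv_lhs => rw [← h0]
      rw [show ρ (low S) (prj ρ 0 v) = (0 : AddChar (SymM F (m + 1)) ℂ) S • prj ρ 0 v from prj_mem ρ 0 v S,
        AddChar.zero_apply, one_smul, h0]
    have hbot : P = ⊥ := by
      rcases hsimple P hPinv with h | h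
      · exact h
      exfalso
      refine chX_ne_zero h2 hψ he00 (DFunLike.ext _ _ fun S => ?_)
      have h1 : ρ (low S) u = chX ψ e0 S • u := hu' S
      rw [hlow S u (h ▸ Submodule.mem_top)] at h1
      rw [AddChar.zero_apply]
      exact (smul_left_injective ℂ hu ((one_smul ℂ u).trans h1)).symm
    intro v hv h
    have h1 : v.1 ∈ P := by
      show ((v.1, 0) : V × W) ∈ Y
      rwa [← h, Prod.mk.eta]
    rw [hbot, Submodule.mem_bot] at h1
    exact Prod.ext h1 h
  have hker2 : ∀ v ∈ Y, v.1 = 0 → v = 0 := by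
    set P : Submodule ℂ W := Y.comap (LinearMap.inr ℂ V W) with hPdef
    have hPinv : ∀ g, ∀ v ∈ P, τ g v ∈ P := fun g v hv => by
      have h := hYinv g _ hv
      have e : σ g ((LinearMap.inr ℂ V W) v) = (LinearMap.inr ℂ V W) (τ g v) :=
        Prod.ext (map_zero (ρ g)) rfl
      rwa [e] at h
    have hlow : ∀ S, ∀ v ∈ P, τ (low S) v = v := fun S v hv => by
      have h0 : prj τ 0 v = v := by
        have h := sum_prj τ v
        rw [Finset.sum_eq_single 0 (fun χ _ hχ => ?_) (by simp)] at h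
        · exact h
        by_contra hne
        have hv' : ((0, v) : V × W) ∈ Y := hv
        obtain ⟨y, hy, -, a, ha⟩ := hline _ hv' χ hχ fun e => hne (by
          have := congrArg Prod.snd e; rwa [hsnd] at this)
        have h3 := congrArg Prod.fst ha
        rw [hfst, map_zero] at h3
        have ha0 : a = 0 := (smul_eq_zero.1 h3.symm).resolve_right (hdVne y)
        exact hne (by have := congrArg Prod.snd ha; rwa [hsnd, ha0, zero_smul] at this)
      conv_lhs => rw [← h0]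
      rw [show τ (low S) (prj τ 0 v) = (0 : AddChar (SymM F (m + 1)) ℂ) S • prj τ 0 v from prj_mem τ 0 v S,
        AddChar.zero_apply, one_smul, h0]
    intro v hv h
    have h1 : v.2 ∈ P := by
      show ((0, v.2) : V × W) ∈ Y
      rwa [← h, Prod.mk.eta]
    exact Prod.ext h (wRep_no_fixed ψ h2 hψ hn _ fun g => fixed_of_low_trivial hn P hPinv hlow g _ h1)
  -- the two projections
  let f1 : Y →ₗ[ℂ] V := (LinearMap.fst ℂ V W).comp Y.subtype
  have hf1 : Function.Bijective f1 := by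
    refine ⟨(injective_iff_map_eq_zero f1).2 fun v hv => Subtype.ext (hker2 v.1 v.2 hv), ?_⟩
    rcases hsimple (LinearMap.range f1) (by
      rintro g _ ⟨v, rfl⟩
      exact ⟨⟨σ g v.1, hYinv g _ v.2⟩, rfl⟩) with h | h
    · exfalso
      refine hdVne e0 ?_
      have h1 : dV e0 ∈ LinearMap.range f1 := ⟨⟨d e0, hYd e0 he00⟩, rfl⟩
      rwa [h, Submodule.mem_bot] at h1
    · exact LinearMap.range_eq_top.1 h
  have hY2 : ∀ v ∈ Y, v.2 ∈ Vp (m + 1) F η :=
    hYmin ((Vp (m + 1) F η).comap (LinearMap.snd ℂ V W)) (fun g v hv => wRep_mem_Vp ψ h2 hψ η g hv)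
      fun y _ => dW_mem hη2 y
  let f2 : Y →ₗ[ℂ] Vp (m + 1) F η :=
    ((LinearMap.snd ℂ V W).comp Y.subtype).codRestrict _ fun v => hY2 v.1 v.2
  have hf2 : Function.Bijective f2 := by
    refine ⟨(injective_iff_map_eq_zero f2).2 fun v hv => Subtype.ext (hker1 v.1 v.2 (congrArg Subtype.val hv)),
      fun f => ?_⟩
    have h := Vp_le_of_mem ψ h2 hψ hn hη2 (Y.map (LinearMap.snd ℂ V W)) (by
      rintro g _ ⟨v, hv, rfl⟩
      exact ⟨σ g v, hYinv g v hv, rfl⟩) (fun y hy => ⟨d y, hYd y hy, rfl⟩) f.2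
    obtain ⟨v, hv, e⟩ := h
    exact ⟨⟨v, hv⟩, Subtype.ext e⟩
  let E : V ≃ₗ[ℂ] Vp (m + 1) F η := (LinearEquiv.ofBijective f1 hf1).symm.trans (LinearEquiv.ofBijective f2 hf2)
  refine ⟨η, hη2, ?_⟩
  rw [← CfsgLib.Char.character_mapEquiv ρ E]
  congr 1
  refine MonoidHom.ext fun g => LinearMap.ext fun f => ?_
  rw [CfsgLib.Char.mapEquiv_apply]
  obtain ⟨v, rfl⟩ := hf2.2 f
  have e1 : E.symm (f2 v) = f1 v := by
    show (LinearEquiv.ofBijective f1 hf1) ((LinearEquiv.ofBijective f2 hf2).symm (LinearEquiv.ofBijective f2 hf2 v)) = f1 v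
    rw [LinearEquiv.symm_apply_apply]; rfl
  rw [e1]
  let v' : Y := ⟨σ g v.1, hYinv g _ v.2⟩
  have e2 : ρ g (f1 v) = f1 v' := rfl
  rw [e2]
  show (LinearEquiv.ofBijective f2 hf2) ((LinearEquiv.ofBijective f1 hf1).symm (LinearEquiv.ofBijective f1 hf1 v')) = _
  rw [LinearEquiv.symm_apply_apply]
  rfl

end CfsgLib.PLocal.WeilGap
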