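import Cfsg.Agent.Lib.PLocal.Weil.Main
import Cfsg.Agent.Lib.PLocal.WeilGap.Bound
import Cfsg.Agent.Lib.PLocal.WeilGap.Gens

/-!
# Weight spaces of the Siegel subgroup and the Weil representation on delta functions
-/

set_option autoImplicit false

namespace CfsgLib.PLocal.WeilGap

open Matrix CfsgLib.PLocal.Weil

variable {F : Type*} [Field F] [Fintype F] {n : ℕ}
variable {V : Type*} [AddCommGroup V] [Module ℂ V]

noncomputable local instance instFintypeSymM : Fintype (SymM F n) := Fintype.ofFinite _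

/-- The eigencharacter of a delta function. -/
noncomputable def chX (ψ : AddChar F ℂ) (x : Fin n → F) : AddChar (SymM F n) ℂ :=
  ψ.compAddMonoidHom ((-(2 : F)⁻¹) • sqf x).toAddMonoidHom

theorem chX_apply (ψ : AddChar F ℂ) (x : Fin n → F) (S : SymM F n) :
    chX ψ x S = ψ (-((2 : F)⁻¹ * (x ⬝ᵥ S.1 *ᵥ x))) := by
  show ψ ((-(2 : F)⁻¹) * sqf x S) = _
  rw [neg_mul]; rfl

theorem chX_neg (ψ : AddChar F ℂ) (x : Fin n → F) : chX ψ (-x) = chX ψ x :=
  DFunLike.ext _ _ fun S => by simp [chX_apply, mulVec_neg]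

/-- Characters determine functionals. -/
theorem func_eq {M : Type*} [AddCommGroup M] [Module F M] {ψ : AddChar F ℂ} (hψ : ψ.IsPrimitive)
    (l l' : M →ₗ[F] F) (S : M) (h : ∀ t : F, ψ (l (t • S)) = ψ (l' (t • S))) : l S = l' S :=
  AddChar.to_mulShift_inj_of_isPrimitive hψ (DFunLike.ext (ψ.mulShift _) (ψ.mulShift _) fun t => by
    simpa [mul_comm] using h t)

omit [Fintype F] in
theorem sqf_single (y : Fin n → F) (i j : Fin n) :
    sqf y (symPair (Pi.single i 1) (Pi.single j 1)) = 2 * (y i * y j) := by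
  simp [sqf_symPair]

theorem chX_inj (h2 : (2 : F) ≠ 0) {ψ : AddChar F ℂ} (hψ : ψ.IsPrimitive) {x y : Fin n → F}
    (h : chX ψ x = chX ψ y) : y = x ∨ y = -x := by
  refine eq_or_neg_of_mul_eq fun i j => ?_
  have h1 := func_eq hψ ((-(2 : F)⁻¹) • sqf x) ((-(2 : F)⁻¹) • sqf y)
    (symPair (Pi.single i 1) (Pi.single j 1)) fun t => DFunLike.congr_fun h _
  simp only [LinearMap.smul_apply, sqf_single, smul_eq_mul] at h1
  exact mul_left_cancel₀ h2 (mul_left_cancel₀ (neg_ne_zero.2 (inv_ne_zero h2)) h1)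

theorem chX_ne_zero (h2 : (2 : F) ≠ 0) {ψ : AddChar F ℂ} (hψ : ψ.IsPrimitive) {x : Fin n → F}
    (hx : x ≠ 0) : chX ψ x ≠ 0 := by
  intro h
  have h0 : chX ψ (0 : Fin n → F) = 0 := DFunLike.ext _ _ fun S => by simp [chX_apply]
  rcases chX_inj h2 hψ (h.trans h0.symm) with e | e
  · exact hx e.symm
  · exact hx (neg_eq_zero.1 e.symm)

/-- The weight space of a character of the Siegel subgroup. -/
def Wt (ρ : Representation ℂ (Matrix.symplecticGroup (Fin n) F) V) (χ : AddChar (SymM F n) ℂ) :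
    Submodule ℂ V where
  carrier := {u | ∀ S, tOp ρ S u = χ S • u}
  zero_mem' S := by simp
  add_mem' ha hb S := by rw [map_add, ha S, hb S, smul_add]
  smul_mem' c u hu S := by rw [map_smul, hu S, smul_comm]

theorem mem_Wt {ρ : Representation ℂ (Matrix.symplecticGroup (Fin n) F) V} {χ : AddChar (SymM F n) ℂ} {u : V} :
    u ∈ Wt ρ χ ↔ ∀ S, ρ (low S) u = χ S • u := Iff.rfl

/-- The projection to a weight space. -/
noncomputable def prj (ρ : Representation ℂ (Matrix.symplecticGroup (Fin n) F) V)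
    (χ : AddChar (SymM F n) ℂ) : Module.End ℂ V :=
  (Fintype.card (SymM F n) : ℂ)⁻¹ • ∑ S, χ (-S) • tOp ρ S

theorem prj_mem (ρ : Representation ℂ (Matrix.symplecticGroup (Fin n) F) V)
    (χ : AddChar (SymM F n) ℂ) (u : V) : prj ρ χ u ∈ Wt ρ χ := by
  intro S
  simp only [prj, LinearMap.smul_apply, LinearMap.sum_apply, map_smul, map_sum, ← Module.End.mul_apply, ← tOp_add]
  rw [smul_comm (χ S) ((Fintype.card (SymM F n) : ℂ)⁻¹), Finset.smul_sum (r := χ S)]
  congr 1
  refine Fintype.sum_equiv (Equiv.addLeft S) _ _ fun T => ?_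
  rw [smul_smul, Equiv.coe_addLeft, ← AddChar.map_add_eq_mul]
  congr 2
  simp

theorem prj_apply (ρ : Representation ℂ (Matrix.symplecticGroup (Fin n) F) V)
    (χ χ' : AddChar (SymM F n) ℂ) [Decidable (χ = χ')] {u : V} (hu : u ∈ Wt ρ χ') :
    prj ρ χ u = if χ = χ' then u else 0 := by
  have h1 : prj ρ χ u = ((Fintype.card (SymM F n) : ℂ)⁻¹ * ∑ S, χ (-S) * χ' S) • u := by
    simp only [prj, LinearMap.smul_apply, LinearMap.sum_apply, Finset.mul_sum, Finset.sum_smul, Finset.smul_sum]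
    exact Finset.sum_congr rfl fun S _ => by rw [show tOp ρ S u = χ' S • u from hu S, smul_smul, smul_smul, mul_assoc]
  rw [h1]
  split_ifs with h
  · subst h
    have : ∀ S, χ (-S) * χ S = 1 := fun S => by rw [← AddChar.map_add_eq_mul, neg_add_cancel, AddChar.map_zero_eq_one]
    simp [this]
  · have hs := AddChar.sum_eq_ite (χ' - χ)
    rw [if_neg (sub_ne_zero.2 (Ne.symm h))] at hs
    rw [show ∑ S, χ (-S) * χ' S = 0 by
      rw [← hs]
      refine Finset.sum_congr rfl fun S _ => ?_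
      rw [AddChar.sub_apply', AddChar.map_neg_eq_inv, div_eq_mul_inv, mul_comm], mul_zero, zero_smul]

theorem prj_comm (ρ : Representation ℂ (Matrix.symplecticGroup (Fin n) F) V)
    (χ : AddChar (SymM F n) ℂ) (S : SymM F n) (u : V) :
    prj ρ χ (tOp ρ S u) = tOp ρ S (prj ρ χ u) := by
  simp only [prj, LinearMap.smul_apply, LinearMap.sum_apply, map_smul, map_sum, ← Module.End.mul_apply, ← tOp_add]
  simp only [add_comm S]

theorem sum_prj (ρ : Representation ℂ (Matrix.symplecticGroup (Fin n) F) V) (u : V) :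
    ∑ χ : AddChar (SymM F n) ℂ, prj ρ χ u = u := by
  classical
  simp only [prj, LinearMap.smul_apply, LinearMap.sum_apply, ← Finset.smul_sum]
  rw [Finset.sum_comm, Finset.sum_eq_single (0 : SymM F n)]
  rotate_left
  · intro T _ hT
    rw [← Finset.sum_smul, AddChar.sum_apply_eq_ite, if_neg (neg_ne_zero.2 hT), zero_smul]
  · simp
  rw [← Finset.sum_smul, AddChar.sum_apply_eq_ite, neg_zero, if_pos rfl, tOp, low_zero, map_one,
    Module.End.one_apply, inv_smul_smul₀ (Nat.cast_ne_zero.2 Fintype.card_ne_zero)]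

omit [Fintype F] in
theorem px_elim (x y : Fin n → F) : px (Sum.elim x y) = x := rfl

omit [Fintype F] in
theorem py_elim (x y : Fin n → F) : py (Sum.elim x y) = y := rfl

omit [Fintype F] in
theorem upE_mulVec_elim (i : Fin n) (t : F) (x y : Fin n → F) :
    (upE i t).1 *ᵥ Sum.elim x y = Sum.elim (x + Pi.single i (t * y i)) y := by
  simp only [upE, fromBlocks_mulVec, Sum.elim_comp_inl, Sum.elim_comp_inr, one_mulVec, zero_mulVec,
    zero_add, single_mulVec]
  funext j
  rcases j with j | j <;> simp [Pi.single_apply, Function.update_apply]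

variable [DecidableEq F] (ψ : AddChar F ℂ) (h2 : (2 : F) ≠ 0) (hψ : ψ.IsPrimitive)

/-- The Weil representation on all functions. -/
noncomputable def wRep : Representation ℂ (Matrix.symplecticGroup (Fin n) F) ((Fin n → F) → ℂ) where
  toFun g := Matrix.toLin' (weil ψ h2 hψ g).1
  map_one' := by rw [map_one]; exact Matrix.toLin'_one
  map_mul' g g' := by rw [map_mul]; exact Matrix.toLin'_mul _ _

theorem wRep_apply (g : Matrix.symplecticGroup (Fin n) F) (f : (Fin n → F) → ℂ) :
    wRep ψ h2 hψ g f = (weil ψ h2 hψ g).1 *ᵥ f := rfl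

/-- The scalar of a Levi element. -/
noncomputable def cL (A : (Matrix (Fin n) (Fin n) F)ˣ) : ℂ := (weil ψ h2 hψ (lev A)).1 0 0

theorem weil_lev (A : (Matrix (Fin n) (Fin n) F)ˣ) :
    (weil ψ h2 hψ (lev A)).1 = cL ψ h2 hψ A • levM A := by
  obtain ⟨c, -, hc⟩ := weil_prop ψ h2 hψ (lev A) (inter_lev ψ A) (levM_ne_zero _)
  have : cL ψ h2 hψ A = c := by simp [cL, hc, levM]
  rw [this, hc]

theorem cL_ne_zero (A : (Matrix (Fin n) (Fin n) F)ˣ) : cL ψ h2 hψ A ≠ 0 := by
  obtain ⟨c, hc0, hc⟩ := weil_prop ψ h2 hψ (lev A) (inter_lev ψ A) (levM_ne_zero _)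
  simpa [cL, hc, levM] using hc0

theorem cL_mul (A B : (Matrix (Fin n) (Fin n) F)ˣ) :
    cL ψ h2 hψ (A * B) = cL ψ h2 hψ A * cL ψ h2 hψ B := by
  conv_lhs => rw [cL, lev_mul, map_mul, Submonoid.coe_mul, weil_lev, weil_lev]
  rw [Matrix.mul_apply, Finset.sum_eq_single (0 : Fin n → F)]
  · simp [levM]
  · intro b _ hb; simp [levM, hb]
  · simp

theorem cL_one : cL ψ h2 hψ (1 : (Matrix (Fin n) (Fin n) F)ˣ) = 1 := by
  simp [cL, lev_one]

theorem weil_low (hn : 2 ≤ n) (S : SymM F n) : (weil ψ h2 hψ (low S)).1 = lowM ψ S := by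
  classical
  let c : SymM F n → ℂ := fun S => (weil ψ h2 hψ (low S)).1 0 0
  have hc : ∀ S, (weil ψ h2 hψ (low S)).1 = c S • lowM ψ S := fun S => by
    obtain ⟨a, -, ha⟩ := weil_prop ψ h2 hψ (low S) (inter_low ψ h2 S) (lowM_ne_zero ψ S)
    have : c S = a := by simp [c, ha, lowM]
    rw [this, ha]
  have hadd : ∀ S T, c (S + T) = c S * c T := fun S T => by
    conv_lhs => simp only [c]
    rw [low_add, map_mul, Submonoid.coe_mul, hc, hc]
    simp [lowM, mul_comm]
  let χ : AddChar (SymM F n) ℂ :=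
    { toFun := c, map_zero_eq_one' := by simp [c, low_zero], map_add_eq_mul' := hadd }
  obtain ⟨l, hl⟩ := exists_functional ψ hψ χ
  have hinv : ∀ (A : (Matrix (Fin n) (Fin n) F)ˣ) S, c (cong (A : Matrix (Fin n) (Fin n) F) S) = c S := by
    intro A S
    let B : (Matrix (Fin n) (Fin n) F)ˣ := ⟨(A : Matrix (Fin n) (Fin n) F)ᵀ, (A⁻¹ : (Matrix (Fin n) (Fin n) F)ˣ).1ᵀ,
      by rw [← transpose_mul, Units.inv_mul, transpose_one], by rw [← transpose_mul, Units.mul_inv, transpose_one]⟩
    have h := congrArg (fun g => (weil ψ h2 hψ g).1 0 0) (low_mul_lev A B rfl S)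
    simp only [map_mul, Submonoid.coe_mul, hc, weil_lev] at h
    rw [Matrix.mul_apply, Matrix.mul_apply, Finset.sum_eq_single (0 : Fin n → F) (fun b _ hb => by
        simp [lowM, hb.symm]) (by simp), Finset.sum_eq_single (0 : Fin n → F) (fun b _ hb => by
        simp [lowM, hb]) (by simp)] at h
    simp [lowM, levM] at h
    exact mul_left_cancel₀ (cL_ne_zero ψ h2 hψ B) (by linear_combination -h)
  suffices hl0 : l = 0 by
    rw [hc, show c S = 1 by rw [show c S = χ S from rfl, hl, hl0]; simp, one_smul]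
  by_contra hl0
  obtain ⟨s, hs, hcard⟩ := orbit_bound h2 l hl0
  have hsub : s ⊆ {l} := fun f hf => by
    obtain ⟨A, rfl⟩ := hs f hf
    refine Finset.mem_singleton.2 (LinearMap.ext fun S => ?_)
    refine func_eq hψ _ l S fun t => ?_
    rw [LinearMap.comp_apply, ← hl, ← hl]
    exact hinv A _
  have h1 := (Finset.card_le_card hsub).trans_eq (Finset.card_singleton l)
  have h3 : 3 ≤ Fintype.card F := by
    have h := FiniteField.odd_card_of_char_ne_two (F := F) fun h => h2 (by
      have := ringChar.Nat.cast_ringChar (R := F); rw [h] at this; exact_mod_cast this)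
    have := Fintype.one_lt_card (α := F)
    omega
  have : 3 ^ 2 ≤ Fintype.card F ^ n :=
    (Nat.pow_le_pow_left h3 2).trans (Nat.pow_le_pow_right Fintype.card_pos hn)
  omega

theorem wRep_lev_single (A : (Matrix (Fin n) (Fin n) F)ˣ) (x : Fin n → F) :
    wRep ψ h2 hψ (lev A) (Pi.single x 1) =
      cL ψ h2 hψ A • Pi.single ((A : Matrix (Fin n) (Fin n) F) *ᵥ x) 1 := by
  rw [wRep_apply, weil_lev, smul_mulVec]
  congr 1
  funext y
  simp only [mulVec_single_one, col_apply, levM, Pi.single_apply]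
  refine if_congr ⟨fun h => ?_, fun h => ?_⟩ rfl rfl
  · rw [h, mulVec_mulVec, Units.mul_inv, one_mulVec]
  · rw [h, mulVec_mulVec, Units.inv_mul, one_mulVec]

theorem wRep_low_single (hn : 2 ≤ n) (S : SymM F n) (x : Fin n → F) :
    wRep ψ h2 hψ (low S) (Pi.single x 1) = chX ψ x S • Pi.single x 1 := by
  rw [wRep_apply, weil_low ψ h2 hψ hn]
  funext y
  rcases eq_or_ne y x with rfl | hy
  · simp [lowM, chX_apply, mulVec_diagonal]
  · simp [lowM, mulVec_diagonal, hy]

theorem wRep_low_apply (hn : 2 ≤ n) (S : SymM F n) (f : (Fin n → F) → ℂ) (x : Fin n → F) :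
    wRep ψ h2 hψ (low S) f x = chX ψ x S * f x := by
  rw [wRep_apply, weil_low ψ h2 hψ hn, lowM, mulVec_diagonal, chX_apply]

/-- The Weil representation has only eigencharacters of rank at most one. -/
theorem rankOne_wRep (hn : 2 ≤ n) : RankOne ψ (wRep (n := n) ψ h2 hψ) := by
  intro χ v hv hχ
  obtain ⟨x, hx⟩ := Function.ne_iff.1 hv
  refine ⟨-(2 : F)⁻¹, x, fun S => ?_⟩
  have h := congrFun (hχ S) x
  rw [tOp, wRep_low_apply ψ h2 hψ hn, Pi.smul_apply, smul_eq_mul] at h
  rw [← mul_right_cancel₀ hx h]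
  rfl

/-- The upper root element keeps the other coordinates. -/
theorem weil_upE_apply_eq_zero (i : Fin n) (t : F) {x y : Fin n → F} {l : Fin n} (hl : l ≠ i)
    (h : x l ≠ y l) : (weil ψ h2 hψ (upE i t)).1 x y = 0 := by
  obtain ⟨hI, -, -⟩ := (exists_good ψ h2 hψ (upE i t)).choose_spec
  obtain ⟨s, hs⟩ : ∃ s : F, ψ (s * x l) ≠ ψ (s * y l) := by
    by_contra! hc
    exact h (AddChar.to_mulShift_inj_of_isPrimitive hψ (DFunLike.ext (ψ.mulShift _) (ψ.mulShift _) fun s => by
      simpa [mul_comm] using hc s))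
  have h1 := congrFun (congrFun (hI (Sum.elim 0 (Pi.single l s))) x) y
  have hfix : (upE i t).1 *ᵥ Sum.elim (0 : Fin n → F) (Pi.single l s) = Sum.elim (0 : Fin n → F) (Pi.single l s) := by
    rw [upE_mulVec_elim, Pi.single_eq_of_ne (Ne.symm hl), mul_zero, Pi.single_zero, add_zero]
  rw [hfix] at h1
  have hop : op ψ (Sum.elim (0 : Fin n → F) (Pi.single l s)) = Matrix.diagonal fun z => ψ (s * z l) := by
    ext a b
    simp only [op, px_elim, py_elim, add_zero, zero_dotProduct, mul_zero, single_dotProduct,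
      Matrix.diagonal, Matrix.of_apply]
    exact if_congr eq_comm rfl rfl
  rw [hop, Matrix.diagonal_mul, Matrix.mul_diagonal] at h1
  by_contra hne
  change (weil ψ h2 hψ (upE i t)).1 x y * ψ (s * y l) = ψ (s * x l) * (weil ψ h2 hψ (upE i t)).1 x y at h1
  exact hs (mul_right_cancel₀ hne (by linear_combination -h1))

/-- The upper root element mixes every position with another one. -/
theorem exists_weil_upE_ne_zero (i : Fin n) {t : F} (ht : t ≠ 0) (x : Fin n → F) :
    ∃ y, y ≠ x ∧ (weil ψ h2 hψ (upE i t)).1 x y ≠ 0 := by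
  by_contra! hc
  obtain ⟨hI, hu, -⟩ := (exists_good ψ h2 hψ (upE i t)).choose_spec
  set M := (weil ψ h2 hψ (upE i t)).1 with hM
  set v : Fin n ⊕ Fin n → F := Sum.elim 0 (Pi.single i 1) with hv
  set x' : Fin n → F := x + px ((upE i t).1 *ᵥ v) with hx'
  have hne : x' ≠ x := by
    intro e
    have : px ((upE i t).1 *ᵥ v) i = 0 := by
      rw [hx'] at e; exact congrFun (add_eq_left.1 e) i
    rw [hv, upE_mulVec_elim, px_elim] at this
    simp at this
    exact ht this
  have hrow : ∀ z, z ≠ x → M x' z = 0 := fun z hz => by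
    have h1 := congrFun (congrFun (hI v) x) z
    change (M * op ψ v) x z = (op ψ ((upE i t).1 *ᵥ v) * M) x z at h1
    rw [Matrix.mul_apply, Matrix.mul_apply, Finset.sum_eq_single x, Finset.sum_eq_single x'] at h1
    rotate_left
    · intro b _ hb
      rw [show op ψ ((upE i t).1 *ᵥ v) x b = 0 from if_neg hb, zero_mul]
    · simp
    · intro b _ hb; rw [hc b hb, zero_mul]
    · simp
    rw [show op ψ v x z = 0 from if_neg (by rw [hv, px_elim, add_zero]; exact hz), mul_zero,
      show op ψ ((upE i t).1 *ᵥ v) x x' = ψ (py ((upE i t).1 *ᵥ v) ⬝ᵥ x + 2⁻¹ *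
        (px ((upE i t).1 *ᵥ v) ⬝ᵥ py ((upE i t).1 *ᵥ v))) from if_pos rfl] at h1
    exact (mul_eq_zero.1 h1.symm).resolve_left (AddChar.val_isUnit ψ _).ne_zero
  have hu' : IsUnit M := hu
  obtain ⟨u, hu''⟩ := hu'
  have e : ∀ a, (∀ z, z ≠ x → M a z = 0) → ∀ b, M a x * (↑u⁻¹ : Matrix _ _ ℂ) x b = if a = b then 1 else 0 := by
    intro a ha b
    have h := congrFun (congrFun (Units.mul_inv u) a) b
    rw [hu'', Matrix.mul_apply, Finset.sum_eq_single x (fun z _ hz => by rw [ha z hz, zero_mul]) (by simp),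
      Matrix.one_apply] at h
    exact h
  have h11 := e x hc x
  have h21 := e x' hrow x
  have h22 := e x' hrow x'
  rw [if_pos rfl] at h11 h22
  rw [if_neg hne] at h21
  rw [(mul_eq_zero.1 h21).resolve_right (right_ne_zero_of_mul (h11.trans_ne one_ne_zero)), zero_mul] at h22
  exact zero_ne_one h22

/-- No function is fixed by the Weil representation. -/
theorem wRep_no_fixed (hn : 2 ≤ n) (f : (Fin n → F) → ℂ) (hf : ∀ g, wRep ψ h2 hψ g f = f) : f = 0 := by
  have hsupp : ∀ x, x ≠ 0 → f x = 0 := fun x hx => by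
    by_contra hfx
    refine chX_ne_zero h2 hψ hx (DFunLike.ext _ _ fun S => ?_)
    have h := congrFun (hf (low S)) x
    rw [wRep_low_apply ψ h2 hψ hn] at h
    simpa using mul_right_cancel₀ hfx (h.trans (one_mul _).symm)
  let i : Fin n := ⟨0, by omega⟩
  set v : Fin n ⊕ Fin n → F := Sum.elim 0 (Pi.single i 1) with hv
  obtain ⟨hI, -, -⟩ := (exists_good ψ h2 hψ (upE i (1 : F))).choose_spec
  set M := (weil ψ h2 hψ (upE i (1 : F))).1 with hM
  have hf0 : f = Pi.single 0 (f 0) := funext fun x => by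
    rcases eq_or_ne x 0 with rfl | hx
    · simp
    · simp [hx, hsupp x hx]
  have hMf : M *ᵥ f = f := hf (upE i 1)
  have hop : op ψ v *ᵥ f = f := by
    funext x
    rw [mulVec, dotProduct, Finset.sum_eq_single x]
    rotate_left
    · intro b _ hb; rw [show op ψ v x b = 0 from if_neg (by rw [hv, px_elim, add_zero]; exact hb), zero_mul]
    · simp
    rcases eq_or_ne x 0 with rfl | hx
    · rw [op, hv, px_elim, py_elim]; simp
    · simp [hsupp x hx]
  have h1 : op ψ ((upE i (1 : F)).1 *ᵥ v) *ᵥ f = f := by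
    conv_lhs => rw [← hMf, mulVec_mulVec, ← show M * op ψ v = op ψ _ * M from hI v, ← mulVec_mulVec, hop, hMf]
  have h0 := congrFun h1 0
  rw [hf0, mulVec_single, Pi.single_eq_same] at h0
  have hp : op ψ ((upE i (1 : F)).1 *ᵥ v) 0 0 = 0 := if_neg fun h => by
    have := congrFun h i
    rw [hv, upE_mulVec_elim, px_elim] at this
    simp at this
  simp [hp] at h0
  rw [hf0, ← h0, Pi.single_zero]

end CfsgLib.PLocal.WeilGap
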